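import Groth.Agent.AlgSt.K744.Art.SC
import Mathlib.RingTheory.FiniteStability

/-!
# The universal pair (algebra structure of rank `n`, map from `A`)

For an `R`-algebra `A` of finite presentation, `Pt R A n C` is the set of pairs of an algebra structure on `C^n` and
a map of `R`-algebras from `A` to it; it is represented by an `R`-algebra of finite presentation (`exists_univ`).
-/

set_option autoImplicit false

universe u

open TensorProduct

namespace K744

/-- structure constants with a map from `A` -/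
structure Pt (R A : Type u) [CommRing R] [CommRing A] [Algebra R A] (n : ℕ) (C : Type u) [CommRing C] [Algebra R C] where
  β : SC n C
  φ : A →+* β.Alg
  w : ∀ r, φ (algebraMap R A r) = algebraMap C β.Alg (algebraMap R C r)

namespace Pt

variable {R A : Type u} [CommRing R] [CommRing A] [Algebra R A] {n : ℕ} {C C' C'' : Type u} [CommRing C] [Algebra R C]
  [CommRing C'] [Algebra R C'] [CommRing C''] [Algebra R C'']

theorem ext' {x y : Pt R A n C} (h : x.β = y.β) (h' : ∀ a, (x.φ a).c = (y.φ a).c) : x = y := by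
  obtain ⟨β, φ, w⟩ := x
  obtain ⟨β', φ', w'⟩ := y
  obtain rfl : β = β' := h
  obtain rfl : φ = φ' := RingHom.ext fun a => SC.Alg.ext' (h' a)
  rfl

/-- functoriality -/
def map (t : C →ₐ[R] C') (x : Pt R A n C) : Pt R A n C' where
  β := x.β.map t.toRingHom
  φ := (SC.mapHom t.toRingHom x.β).comp x.φ
  w r := (congrArg (SC.mapHom t.toRingHom x.β) (x.w r)).trans
    ((SC.mapHom_algebraMap t.toRingHom x.β _).trans (congrArg _ (t.commutes r)))

@[simp] lemma map_β (t : C →ₐ[R] C') (x : Pt R A n C) : (x.map t).β = x.β.map t.toRingHom := rfl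

@[simp] lemma map_φ_c (t : C →ₐ[R] C') (x : Pt R A n C) (a : A) (i : Fin n) : ((x.map t).φ a).c i = t ((x.φ a).c i) := rfl

lemma map_id (x : Pt R A n C) : x.map (AlgHom.id R C) = x := rfl

lemma map_map (t : C →ₐ[R] C') (t' : C' →ₐ[R] C'') (x : Pt R A n C) : (x.map t).map t' = x.map (t'.comp t) := rfl

end Pt

/-- base change of `E n` to `R` -/
theorem SC.exists_ER (R : Type u) [CommRing R] (n : ℕ) :
    ∃ (ER : Type u) (_ : CommRing ER) (_ : Algebra R ER) (_ : Algebra.FinitePresentation R ER) (i₀ : SC.E.{u} n →+* ER),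
      ∀ (C : Type u) [CommRing C] [Algebra R C] (f : SC.E.{u} n →+* C),
        ∃! t : ER →ₐ[R] C, t.toRingHom.comp i₀ = f := by
  let : Algebra ZZ.{u} R := (ZZ.hom R).toAlgebra
  let i : SC.E.{u} n →ₐ[ZZ.{u}] R ⊗[ZZ.{u}] SC.E.{u} n := Algebra.TensorProduct.includeRight
  refine ⟨R ⊗[ZZ.{u}] SC.E.{u} n, inferInstance, inferInstance, inferInstance, i.toRingHom, ?_⟩
  intro C _ _ f
  let : Algebra ZZ.{u} C := (ZZ.hom C).toAlgebra
  have : IsScalarTower ZZ.{u} R C := IsScalarTower.of_algebraMap_eq fun z =>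
    DFunLike.congr_fun (ZZ.hom_ext (algebraMap ZZ.{u} C) ((algebraMap R C).comp (algebraMap ZZ.{u} R))) z
  let f' : SC.E.{u} n →ₐ[ZZ.{u}] C :=
    { toRingHom := f
      commutes' := fun z => DFunLike.congr_fun (ZZ.hom_ext (f.comp (algebraMap ZZ.{u} (SC.E.{u} n)))
          (algebraMap ZZ.{u} C)) z }
  let t₀ : R ⊗[ZZ.{u}] SC.E.{u} n →ₐ[R] C := Algebra.TensorProduct.lift (Algebra.ofId R C) f' (fun _ _ => Commute.all _ _)
  refine ⟨t₀, ?_, ?_⟩
  · refine RingHom.ext fun z => ?_
    change t₀ (1 ⊗ₜ z) = _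
    rw [Algebra.TensorProduct.lift_tmul, map_one, one_mul]
    rfl
  · intro t ht
    apply Algebra.TensorProduct.ext
    · exact Subsingleton.elim _ _
    · refine AlgHom.ext fun z => ?_
      change t (1 ⊗ₜ z) = t₀ (1 ⊗ₜ z)
      rw [Algebra.TensorProduct.lift_tmul, map_one, one_mul]
      exact DFunLike.congr_fun ht z

set_option maxHeartbeats 1000000 in
theorem Pt.exists_univ (R A : Type u) [CommRing R] [CommRing A] [Algebra R A] [Algebra.FinitePresentation R A] (n : ℕ) :
    ∃ (P : Type u) (_ : CommRing P) (_ : Algebra R P) (_ : Algebra.FinitePresentation R P) (ξ : Pt R A n P),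
      ∀ (C : Type u) [CommRing C] [Algebra R C] (x : Pt R A n C), ∃! t : P →ₐ[R] C, ξ.map t = x := by
  classical
  obtain ⟨m, p, hp, s, hs⟩ := (inferInstance : Algebra.FinitePresentation R A).out
  obtain ⟨ER, _, _, _, i₀, hi₀⟩ := SC.exists_ER R n
  let E' : Type u := MvPolynomial (Fin m × Fin n) ER
  have : Algebra.FinitePresentation ER E' := inferInstance
  have : Algebra.FinitePresentation R E' := Algebra.FinitePresentation.trans R ER E'
  let β' : SC n E' := (SC.univ n).map ((algebraMap ER E').comp i₀)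
  let U : Fin m → β'.Alg := fun j => ⟨fun k => MvPolynomial.X (j, k)⟩
  let evU : MvPolynomial (Fin m) R →+* β'.Alg :=
    MvPolynomial.eval₂Hom ((algebraMap E' β'.Alg).comp (algebraMap R E')) U
  let T : Finset E' := (s ×ˢ (Finset.univ : Finset (Fin n))).image fun q => (evU q.1).c q.2
  let I : Ideal E' := Ideal.span (T : Set E')
  let q : E' →ₐ[R] E' ⧸ I := Ideal.Quotient.mkₐ R I
  have hq : Function.Surjective q := Ideal.Quotient.mkₐ_surjective R I
  have hfp : Algebra.FinitePresentation R (E' ⧸ I) := Algebra.FinitePresentation.quotient ⟨T, rfl⟩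
  let β : SC n (E' ⧸ I) := β'.map q.toRingHom
  let ψ : MvPolynomial (Fin m) R →+* β.Alg := (SC.mapHom q.toRingHom β').comp evU
  have hψ : RingHom.ker p.toRingHom ≤ RingHom.ker ψ := by
    rw [← hs]
    refine Submodule.span_le.2 ?_
    intro g hg
    change ψ g = 0
    ext k
    change q ((evU g).c k) = 0
    refine Ideal.Quotient.eq_zero_iff_mem.2 (Ideal.subset_span ?_)
    exact Finset.mem_coe.2 (Finset.mem_image.2 ⟨(g, k), Finset.mem_product.2 ⟨hg, Finset.mem_univ _⟩, rfl⟩)
  let φ : A →+* β.Alg := RingHom.liftOfSurjective p.toRingHom hp ⟨ψ, hψ⟩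
  have hφ : ∀ g, φ (p g) = ψ g := fun g => RingHom.liftOfSurjective_comp_apply p.toRingHom hp ⟨ψ, hψ⟩ g
  have hw : ∀ r, φ (algebraMap R A r) = algebraMap (E' ⧸ I) β.Alg (algebraMap R (E' ⧸ I) r) := by
    intro r
    rw [← p.commutes r, hφ]
    change SC.mapHom q.toRingHom β' (MvPolynomial.eval₂Hom _ U (MvPolynomial.C r)) = _
    rw [MvPolynomial.eval₂Hom_C]
    exact SC.mapHom_algebraMap q.toRingHom β' (algebraMap R E' r)
  refine ⟨E' ⧸ I, inferInstance, inferInstance, hfp, ⟨β, φ, hw⟩, ?_⟩
  intro C _ _ x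
  -- the map on `ER`
  obtain ⟨t₀, ht₀, ht₀u⟩ := hi₀ C (SC.lift x.β)
  let : Algebra ER C := t₀.toRingHom.toAlgebra
  have tw : IsScalarTower R ER C := IsScalarTower.of_algebraMap_eq fun r => (t₀.commutes r).symm
  let t₁ : E' →ₐ[ER] C := MvPolynomial.aeval fun jk => (x.φ (p (MvPolynomial.X jk.1))).c jk.2
  let t₁' : E' →ₐ[R] C := t₁.restrictScalars R
  have hβ' : β'.map t₁'.toRingHom = x.β := by
    change (SC.univ n).map (t₁.toRingHom.comp ((algebraMap ER E').comp i₀)) = _
    rw [← SC.univ_map_lift x.β]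
    congr 1
    rw [← ht₀]
    refine RingHom.ext fun z => ?_
    exact t₁.commutes (i₀ z)
  have hev : ∀ g, (x.φ (p g)).c = fun k => t₁' ((evU g).c k) := by
    have h1 : ((SC.congr hβ').toRingHom.comp (SC.mapHom t₁'.toRingHom β')).comp evU = x.φ.comp p.toRingHom := by
      apply MvPolynomial.ringHom_ext
      · intro r
        have h2 : evU (MvPolynomial.C r) = algebraMap E' β'.Alg (algebraMap R E' r) := MvPolynomial.eval₂Hom_C _ _ _
        have h3 : SC.mapHom t₁'.toRingHom β' (evU (MvPolynomial.C r)) =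
            algebraMap C (β'.map t₁'.toRingHom).Alg (algebraMap R C r) := by
          rw [h2]
          exact (SC.mapHom_algebraMap t₁'.toRingHom β' _).trans (congrArg _ (t₁'.commutes r))
        have h4 : x.φ (p (MvPolynomial.C r)) = algebraMap C x.β.Alg (algebraMap R C r) := by
          rw [← x.w r, ← p.commutes r]
          rfl
        change (SC.congr hβ') (SC.mapHom t₁'.toRingHom β' (evU (MvPolynomial.C r))) = x.φ (p (MvPolynomial.C r))
        rw [h3, h4, AlgEquiv.commutes]
      · intro j
        ext k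
        change t₁ ((evU (MvPolynomial.X j)).c k) = _
        simp only [evU, MvPolynomial.eval₂Hom_X']
        exact MvPolynomial.aeval_X _ _
    intro g
    funext k
    exact (congrArg (fun z : x.β.Alg => z.c k) (DFunLike.congr_fun h1 g)).symm
  have hI : ∀ e ∈ I, t₁' e = 0 := by
    have h1 : I ≤ RingHom.ker t₁' := by
      refine Ideal.span_le.2 ?_
      intro e he
      obtain ⟨⟨g, k⟩, hgk, rfl⟩ := Finset.mem_image.1 (Finset.mem_coe.1 he)
      have hg : p g = 0 := by
        have : g ∈ RingHom.ker p.toRingHom := by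
          rw [← hs]
          exact Submodule.subset_span (Finset.mem_product.1 hgk).1
        exact this
      have h2 := congrFun (hev g) k
      change t₁' ((evU g).c k) = 0
      rw [← h2, hg, map_zero]
      rfl
    exact fun e he => h1 he
  let t : (E' ⧸ I) →ₐ[R] C := Ideal.Quotient.liftₐ I t₁' hI
  refine ⟨t, ?_, ?_⟩
  · apply Pt.ext'
    · exact hβ'
    · intro a
      obtain ⟨g, rfl⟩ := hp a
      funext k
      change t ((φ (p g)).c k) = _
      rw [hφ, hev]
      rfl
  · intro t' ht'
    have h1 : t'.toRingHom.comp q.toRingHom = t₁'.toRingHom := by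
      apply MvPolynomial.ringHom_ext
      · intro z
        let t₂ : ER →ₐ[R] C := (t'.comp q).comp (IsScalarTower.toAlgHom R ER E')
        have h2 : t₂ = t₀ := by
          apply ht₀u
          apply SC.hom_ext
          rw [SC.univ_map_lift]
          exact congrArg Pt.β ht'
        have e1 : t' (q (MvPolynomial.C z)) = t₀ z := DFunLike.congr_fun h2 z
        have e2 : t₁ (MvPolynomial.C z) = algebraMap ER C z := MvPolynomial.aeval_C _ z
        exact e1.trans e2.symm
      · rintro ⟨j, k⟩
        have h2 : t' ((φ (p (MvPolynomial.X j))).c k) = (x.φ (p (MvPolynomial.X j))).c k :=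
          congrArg (fun y : Pt R A n C => (y.φ (p (MvPolynomial.X j))).c k) ht'
        have h3 : (φ (p (MvPolynomial.X j))).c k = q (MvPolynomial.X (j, k)) := by
          rw [hφ]
          change q ((evU (MvPolynomial.X j)).c k) = _
          simp only [evU, MvPolynomial.eval₂Hom_X']
          rfl
        rw [h3] at h2
        have e3 : t₁ (MvPolynomial.X (j, k)) = (x.φ (p (MvPolynomial.X j))).c k := MvPolynomial.aeval_X _ _
        exact h2.trans e3.symm
    refine AlgHom.ext fun y => ?_
    obtain ⟨y, rfl⟩ := hq y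
    exact DFunLike.congr_fun h1 y

end K744
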