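import Groth.Agent.AlgSt.K744.Art.SpCh
import Groth.Agent.Gerb.K893.V4

/-!
# Artin's theorem on flat charts

A stack in groupoids for the fppf topology with a flat, locally finitely presented, surjective chart by a scheme
(an algebraic space, an algebraic stack) is an algebraic stack.

* `isAlgStack`, `isAlgStack₀` : the theorem for categories with morphisms in `Type (u+1)` and `Type u`.
* `isAlgStack_of_cover`, `isAlgStack₀_of_cover`, `isAlgStack_of_rep`, `isAlgStack₀_of_rep` : charts by algebraic stacks and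
  by algebraic spaces.

Joint work: the ring core is `K628.Artin.*`, the smooth locus `K628.SmLoc`, Weil restriction and the smooth points
`K893.Wr.*`, `K893.V4`.
-/

set_option autoImplicit false

universe w v₂ u₂ v u

open CategoryTheory CategoryTheory.Limits AlgebraicGeometry Opposite AlgSp

namespace K744.Art

variable {S : Scheme.{u}}

/-- **Artin's theorem on flat charts** (morphisms in `Type (u+1)`). -/
theorem isAlgStack {𝒳 : BasedCategory.{u + 1, w} (Over S)} (hs : Stk.IsStack (QuotSh.J Scheme.fppfPrecoverage S) 𝒳)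
    {U : Over S} (x : FibCat.overCat U ⥤ᵇ 𝒳)
    (hx : AlgSt.RepByAlgSpWith (LocP (@Flat ⊓ @LocallyOfFinitePresentation)) x)
    (hx3 : AlgSt.RepByAlgSpWith IsSurjectiveMor x) : AlgSt.IsAlgStack Scheme.fppfPrecoverage 𝒳 :=
  K744.ArtV.isAlgStack_of hs x hx hx3 (K744.ArtV.smLocus (flat_of hx) (lfp_of hx) hx3) (K893.V4.smPt U)

/-- **Artin's theorem on flat charts** (morphisms in `Type u`). -/
theorem isAlgStack₀ {𝒳 : BasedCategory.{u, w} (Over S)} (hs : Stk.IsStack (QuotSh.J Scheme.fppfPrecoverage S) 𝒳)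
    {U : Over S} (x : FibCat.overCat U ⥤ᵇ 𝒳)
    (hx : AlgSt.RepByAlgSpWith (LocP (@Flat ⊓ @LocallyOfFinitePresentation)) x)
    (hx3 : AlgSt.RepByAlgSpWith IsSurjectiveMor x) : AlgSt.IsAlgStack Scheme.fppfPrecoverage 𝒳 :=
  K744.ArtV.isAlgStack_of₀ hs x hx hx3 (K744.ArtV.smLocus (flat_of hx) (lfp_of hx) hx3) (K893.V4.smPt U)

/-- Flat charts by algebraic stacks. -/
theorem isAlgStack_of_cover {𝒳 : BasedCategory.{u + 1, w} (Over S)}
    (hs : Stk.IsStack (QuotSh.J Scheme.fppfPrecoverage S) 𝒳)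
    {𝒰 : AlgSt.Cat S} (h𝒰 : FibCat.IsFibGrpd 𝒰.p) (hat : AlgSt.HasAtlas (LocP @Smooth) 𝒰)
    (f : 𝒰 ⥤ᵇ 𝒳) (h1 : AlgSt.RepByAlgSpWith (LocP @Flat) f)
    (h2 : AlgSt.RepByAlgSpWith (LocP @LocallyOfFinitePresentation) f) (h3 : AlgSt.RepByAlgSpWith IsSurjectiveMor f) :
    AlgSt.IsAlgStack Scheme.fppfPrecoverage 𝒳 := by
  obtain ⟨U, x, hx, hx3⟩ := exists_flat_chart h𝒰 hat f h1 h2 h3
  exact isAlgStack hs x hx hx3

/-- Flat charts by algebraic stacks (morphisms in `Type u`). -/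
theorem isAlgStack₀_of_cover {𝒳 : BasedCategory.{u, w} (Over S)}
    (hs : Stk.IsStack (QuotSh.J Scheme.fppfPrecoverage S) 𝒳)
    {𝒰 : AlgSt.Cat S} (h𝒰 : FibCat.IsFibGrpd 𝒰.p) (hat : AlgSt.HasAtlas (LocP @Smooth) 𝒰)
    (f : 𝒰 ⥤ᵇ 𝒳) (h1 : AlgSt.RepByAlgSpWith (LocP @Flat) f)
    (h2 : AlgSt.RepByAlgSpWith (LocP @LocallyOfFinitePresentation) f) (h3 : AlgSt.RepByAlgSpWith IsSurjectiveMor f) :
    AlgSt.IsAlgStack Scheme.fppfPrecoverage 𝒳 := by
  obtain ⟨U, x, hx, hx3⟩ := exists_flat_chart h𝒰 hat f h1 h2 h3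
  exact isAlgStack₀ hs x hx hx3

/-- Flat charts by algebraic spaces. -/
theorem isAlgStack_of_rep {𝒳 : BasedCategory.{u + 1, w} (Over S)}
    (hs : Stk.IsStack (QuotSh.J Scheme.fppfPrecoverage S) 𝒳)
    {𝒰 : BasedCategory.{v₂, u₂} (Over S)} (hU : AlgSt.RepByAlgSp 𝒰)
    (f : 𝒰 ⥤ᵇ 𝒳) (h1 : AlgSt.RepByAlgSpWith (LocP @Flat) f)
    (h2 : AlgSt.RepByAlgSpWith (LocP @LocallyOfFinitePresentation) f) (h3 : AlgSt.RepByAlgSpWith IsSurjectiveMor f) :
    AlgSt.IsAlgStack Scheme.fppfPrecoverage 𝒳 := by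
  obtain ⟨U, x, hx, hx3⟩ := exists_flat_chart_of_rep hU f h1 h2 h3
  exact isAlgStack hs x hx hx3

/-- Flat charts by algebraic spaces (morphisms in `Type u`). -/
theorem isAlgStack₀_of_rep {𝒳 : BasedCategory.{u, w} (Over S)}
    (hs : Stk.IsStack (QuotSh.J Scheme.fppfPrecoverage S) 𝒳)
    {𝒰 : BasedCategory.{v₂, u₂} (Over S)} (hU : AlgSt.RepByAlgSp 𝒰)
    (f : 𝒰 ⥤ᵇ 𝒳) (h1 : AlgSt.RepByAlgSpWith (LocP @Flat) f)
    (h2 : AlgSt.RepByAlgSpWith (LocP @LocallyOfFinitePresentation) f) (h3 : AlgSt.RepByAlgSpWith IsSurjectiveMor f) :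
    AlgSt.IsAlgStack Scheme.fppfPrecoverage 𝒳 := by
  obtain ⟨U, x, hx, hx3⟩ := exists_flat_chart_of_rep hU f h1 h2 h3
  exact isAlgStack₀ hs x hx hx3

end K744.Art
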