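import Groth.Agent.AlgSt.K744.Art.WRS
import Groth.Agent.AlgSt.K734.Atlas

/-!
# Scheme charts of `V x c` and the comparison with the Weil restriction
-/

set_option autoImplicit false
set_option linter.unusedVariables false
set_option backward.isDefEq.respectTransparency false
set_option backward.isDefEq.respectTransparency.types false

universe w v u

open CategoryTheory CategoryTheory.Limits AlgebraicGeometry Opposite AlgSp

namespace K744.ArtV

open K734.Fib K734.Rep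

variable {S : Scheme.{u}}

/-- Representability of the fibre product with a composite `V' ⟶ ofSp FV ⟶ 𝒳`. -/
theorem exists_rep_comp {𝒳 : BasedCategory.{v, w} (Over S)} {FV : Sp S} {V' : Over S} (p : (yon S).obj V' ⟶ FV)
    (g : AlgSt.ofSp FV ⥤ᵇ 𝒳) {T₀ : Over S} (y : FibCat.overCat T₀ ⥤ᵇ 𝒳) {M : Sp S}
    (e : AlgSt.ofSp M ⥤ᵇ FibCat.fp y g) (he : FibCat.IsEquivOver e) :
    ∃ (q : M ⟶ FV) , ∀ {F' : Sp S} {fst : F' ⟶ (yon S).obj V'} {snd : F' ⟶ M} (_ : IsPullback fst snd p q),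
      ∃ e' : AlgSt.ofSp F' ⥤ᵇ FibCat.fp y (BasedFunctor.comp (AlgSt.ofOverCat V') (BasedFunctor.comp (AlgSt.ofSpMap p) g)),
        FibCat.IsEquivOver e' ∧ AlgSt.spMapOfOver (BasedFunctor.comp e' (FibCat.fpFst y _)) =
          snd ≫ AlgSt.spMapOfOver (BasedFunctor.comp e (FibCat.fpFst y g)) := by
  obtain ⟨q, ⟨iq⟩⟩ := exists_ofSpMap (BasedFunctor.comp e (FibCat.fpSnd y g))
  refine ⟨q, fun {F' fst snd} sq => ?_⟩
  have hq := (isRep_ofSpMap sq).congr iq.symm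
  -- `z : ofSp h_{T₀} ⟶ 𝒳`
  let z : AlgSt.ofSp ((yon S).obj T₀) ⥤ᵇ 𝒳 := BasedFunctor.comp (AlgSt.toOverCat T₀) y
  have hL := isEquivOver_fpPreL (AlgSt.toOverCat T₀) (K735.Rep.isEquivOver_toOverCat T₀) y g
  obtain ⟨k, hk, -, ⟨β⟩⟩ := exists_inverse hL
  let E : AlgSt.ofSp M ⥤ᵇ FibCat.fp z g := BasedFunctor.comp e k
  have hE : FibCat.IsEquivOver E := isEquivOver_comp he hk
  have iE : BasedFunctor.comp E (fpPreL (AlgSt.toOverCat T₀) y g) ≅ e := wl e β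
  obtain ⟨r, ⟨ir⟩⟩ := exists_ofSpMap (BasedFunctor.comp E (FibCat.fpFst z g))
  have hr : r = AlgSt.spMapOfOver (BasedFunctor.comp e (FibCat.fpFst y g)) := by
    have h1 : BasedFunctor.comp (BasedFunctor.comp E (fpPreL (AlgSt.toOverCat T₀) y g)) (FibCat.fpFst y g) ≅
        BasedFunctor.comp e (FibCat.fpFst y g) := K734.Fib.wr iE (FibCat.fpFst y g)
    have h2 : BasedFunctor.comp (BasedFunctor.comp E (FibCat.fpFst z g)) (AlgSt.toOverCat T₀) ≅
        BasedFunctor.comp (AlgSt.ofSpMap r) (AlgSt.toOverCat T₀) := K734.Fib.wr ir _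
    rw [← K735.Rep.spMapOfOver_eq_of_iso h1, ← K735.Rep.spMapOfOver_ofSpMap_toOverCat r]
    exact K735.Rep.spMapOfOver_eq_of_iso h2.symm
  have iq' : BasedFunctor.comp E (FibCat.fpSnd z g) ≅ BasedFunctor.comp e (FibCat.fpSnd y g) :=
    K734.Fib.wr iE (FibCat.fpSnd y g)
  have h3 : IsRep (AlgSt.ofSpMap p) (BasedFunctor.comp E (FibCat.fpSnd z g)) snd := hq.congr iq'.symm
  have h4 := IsRep.comp' (f := AlgSt.ofSpMap p) (g := g) (z := z) hE ir h3
  obtain ⟨e₄, he₄, ⟨i₄⟩⟩ := h4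
  -- pass to `fp y (p ≫ g)`
  have hL' := isEquivOver_fpPreL (AlgSt.toOverCat T₀) (K735.Rep.isEquivOver_toOverCat T₀) y
    (BasedFunctor.comp (AlgSt.ofSpMap p) g)
  have hR := isEquivOver_fpPreR y (AlgSt.ofOverCat V') (K735.Rep.isEquivOver_ofOverCat V')
    (BasedFunctor.comp (AlgSt.ofSpMap p) g)
  obtain ⟨k', hk', -, ⟨β'⟩⟩ := exists_inverse hR
  refine ⟨BasedFunctor.comp (BasedFunctor.comp e₄ (fpPreL (AlgSt.toOverCat T₀) y
    (BasedFunctor.comp (AlgSt.ofSpMap p) g))) k', isEquivOver_comp (isEquivOver_comp he₄ hL') hk', ?_⟩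
  have h5 : BasedFunctor.comp (BasedFunctor.comp (BasedFunctor.comp e₄ (fpPreL (AlgSt.toOverCat T₀) y
      (BasedFunctor.comp (AlgSt.ofSpMap p) g))) k') (FibCat.fpFst y (BasedFunctor.comp (AlgSt.ofOverCat V')
        (BasedFunctor.comp (AlgSt.ofSpMap p) g))) ≅
      BasedFunctor.comp (BasedFunctor.comp e₄ (fpPreL (AlgSt.toOverCat T₀) y
        (BasedFunctor.comp (AlgSt.ofSpMap p) g))) (FibCat.fpFst y (BasedFunctor.comp (AlgSt.ofSpMap p) g)) :=
    wl (BasedFunctor.comp e₄ (fpPreL (AlgSt.toOverCat T₀) y (BasedFunctor.comp (AlgSt.ofSpMap p) g)))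
      (K734.Fib.wr β' (FibCat.fpFst y (BasedFunctor.comp (AlgSt.ofSpMap p) g)))
  have h6 : BasedFunctor.comp (BasedFunctor.comp e₄ (FibCat.fpFst z (BasedFunctor.comp (AlgSt.ofSpMap p) g)))
      (AlgSt.toOverCat T₀) ≅ BasedFunctor.comp (AlgSt.ofSpMap (snd ≫ r)) (AlgSt.toOverCat T₀) := K734.Fib.wr i₄ _
  rw [K735.Rep.spMapOfOver_eq_of_iso h5, ← hr, ← K735.Rep.spMapOfOver_ofSpMap_toOverCat (snd ≫ r)]
  exact K735.Rep.spMapOfOver_eq_of_iso h6

variable {𝒳 : BasedCategory.{v, w} (Over S)} {U : Over S} {x : FibCat.overCat U ⥤ᵇ 𝒳} {Z B : Over S} {c : Z ⟶ B}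

/-- A scheme chart `v : V' ⟶ V x c ⟶ 𝒳` such that every étale chart `g : W ⟶ Res` of the Weil restriction
representing `(V x c) ×_𝒳 U` lifts, after an étale covering `k : W' ⟶ W`, to an étale chart of `V' ×_𝒳 U`. -/
theorem exists_chart (hs : Stk.IsStack (QuotSh.J Scheme.fppfPrecoverage S) 𝒳)
    (hx1 : AlgSt.RepByAlgSpWith (LocP @Flat) x)
    (hx2 : AlgSt.RepByAlgSpWith (LocP @LocallyOfFinitePresentation) x)
    (hx3 : AlgSt.RepByAlgSpWith IsSurjectiveMor x)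
    (h1 : IsFinite c.left) (h2 : Flat c.left) (h3 : LocallyOfFinitePresentation c.left) (h4 : Surjective c.left)
    (hB : LocallyOfFinitePresentation B.hom) :
    ∃ (V' : Over S) (vv : FibCat.overCat V' ⥤ᵇ 𝒳), AlgSt.RepByAlgSpWith (LocP @LocallyOfFinitePresentation) vv ∧
      ∀ {F : Sp S} {p : F ⟶ (yon S).obj U} (_ : IsAlgSpace F) (_ : K738.SecRep (FibCat.fpFst x x) F p)
        {TB TZ : Over S} {tT : TB ⟶ U} {tB : TB ⟶ B} (_ : IsLimit (BinaryFan.mk tT tB))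
        {zT : TZ ⟶ U} {zZ : TZ ⟶ Z} (_ : IsLimit (BinaryFan.mk zT zZ))
        {c' : TZ ⟶ TB} (_ : c' ≫ tT = zT) (_ : c' ≫ tB = zZ ≫ c)
        {W : Sp S} {f' : W ⟶ F} {w' : W ⟶ (yon S).obj TZ} (_ : IsPullback f' w' p ((yon S).map zT))
        (T : Over S) (g : (yon S).obj T ⟶ K893.Wr.Res c' w') (_ : RepWith @Etale g),
      ∃ (T' : Over S) (k : T' ⟶ T) (F' : Sp S) (e : AlgSt.ofSp F' ⥤ᵇ FibCat.fp x vv) (j : (yon S).obj T' ⟶ F'),
        Etale k.left ∧ Surjective k.left ∧ IsAlgSpace F' ∧ FibCat.IsEquivOver e ∧ RepWith @Etale j ∧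
          j ≫ AlgSt.spMapOfOver (BasedFunctor.comp e (FibCat.fpFst x vv)) =
            (yon S).map k ≫ g ≫ K893.Wr.π c' w' ≫ (yon S).map tT := by
  obtain ⟨hV, FV, eV, heV⟩ := repByAlgSp_V (x := x) (c := c) (wr S) hs hx1 hx2 hx3 h1 h2 h3 h4 hB
  have hrep := repByAlgSpWith_toX (x := x) (c := c) (wr S) hs.1 hx2 h1 h2 h3 hB
  obtain ⟨V', p', hp1, hp2⟩ := FV.property.atlas
  let g₀ : AlgSt.ofSp FV.obj ⥤ᵇ 𝒳 := BasedFunctor.comp eV (toX x c)
  have hg₀ : AlgSt.RepByAlgSpWith (LocP @LocallyOfFinitePresentation) g₀ :=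
    (repByAlgSpWith_precomp_iff heV (toX x c)).2 hrep
  have hp'' : LocP @LocallyOfFinitePresentation p' :=
    K597.locP_mono (fun _ _ _ h => by have : Etale _ := h; infer_instance) (K597.locP_of_repWith K597.etLoc_etale.precomp hp1)
  refine ⟨V', BasedFunctor.comp (AlgSt.ofOverCat V') (BasedFunctor.comp (AlgSt.ofSpMap p') g₀), ?_, ?_⟩
  · rw [repByAlgSpWith_precomp_iff (K735.Rep.isEquivOver_ofOverCat V')]
    exact nice_lfp.repByAlgSpWith_comp (isFibGrpd_ofPsh' _) (isFibGrpd_ofPsh' _)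
      (nice_lfp.repByAlgSpWith_ofSpMap (IsAlgSpace.yon_obj V') FV.property hp'') hg₀
  · intro F p hF R TB TZ tT tB hTB zT zZ hTZ c' hc1 hc2 W f' w' sq T g hg
    have hT := AlgSp.IsAlgSpace.yon_obj U
    have hTZa := AlgSp.IsAlgSpace.yon_obj TZ
    have hTBa := AlgSp.IsAlgSpace.yon_obj TB
    have hW : IsAlgSpace W := K613.Chart.isAlgSpace_of_isPullback hT.diag hF hTZa sq
    have k1 : IsFinite c'.left := left_c' (P := @IsFinite) hTB hTZ hc1 hc2 h1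
    have k2 : Flat c'.left := left_c' (P := @Flat) hTB hTZ hc1 hc2 h2
    have k3 : LocallyOfFinitePresentation c'.left := left_c' (P := @LocallyOfFinitePresentation) hTB hTZ hc1 hc2 h3
    have hM : IsAlgSpace (K893.Wr.Res c' w') := (wr S).alg c' k1 k2 k3 w' hW
    obtain ⟨e₀, he₀, hπ₀⟩ := (secRep hs.1 R hTB hTZ hc1 hc2 sq).exists_equiv
    obtain ⟨k₀, hk₀, -, ⟨β₀⟩⟩ := exists_inverse (isEquivOver_fpPreR x eV heV (toX x c))
    let e₁ : AlgSt.ofSp (K893.Wr.Res c' w') ⥤ᵇ FibCat.fp x g₀ := BasedFunctor.comp e₀ k₀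
    have he₁ : FibCat.IsEquivOver e₁ := isEquivOver_comp he₀ hk₀
    have i₁ : BasedFunctor.comp e₁ (FibCat.fpFst x g₀) ≅ BasedFunctor.comp e₀ (FibCat.fpFst x (toX x c)) :=
      wl e₀ (K734.Fib.wr β₀ (FibCat.fpFst x (toX x c)))
    have hπ₁ : AlgSt.spMapOfOver (BasedFunctor.comp e₁ (FibCat.fpFst x g₀)) = K893.Wr.π c' w' ≫ (yon S).map tT := by
      rw [← hπ₀]
      exact K735.Rep.spMapOfOver_eq_of_iso i₁
    obtain ⟨q, hq⟩ := exists_rep_comp p' g₀ x e₁ he₁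
    have sq₂ := IsPullback.of_hasPullback p' q
    obtain ⟨e₂, he₂, hπ₂⟩ := hq sq₂
    have hF' : IsAlgSpace (pullback p' q) :=
      K613.Chart.isAlgSpace_of_isPullback FV.property.diag (IsAlgSpace.yon_obj V') hM sq₂
    have hsnd1 : RepWith @Etale (pullback.snd p' q) := K597.repWith_bc _ sq₂ hp1
    have hsnd2 : RepWith @Surjective (pullback.snd p' q) := K597.repWith_bc _ sq₂ hp2
    have sq₃ := IsPullback.of_hasPullback (pullback.snd p' q) g
    have hG : IsAlgSpace (pullback (pullback.snd p' q) g) :=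
      K613.Chart.isAlgSpace_of_isPullback hM.diag hF' (IsAlgSpace.yon_obj T) sq₃
    obtain ⟨T', a, ha1, ha2⟩ := hG.atlas
    obtain ⟨k, hk⟩ := (yon S).map_surjective (a ≫ pullback.snd (pullback.snd p' q) g)
    refine ⟨T', k, _, e₂, a ≫ pullback.fst (pullback.snd p' q) g, ?_, ?_, hF', he₂, ?_, ?_⟩
    · refine (repWith_yon_map_iff @Etale k).1 ?_
      rw [hk]
      exact K597.etale_comp ha1 (K597.repWith_bc _ sq₃ hsnd1)
    · refine (repWith_yon_map_iff @Surjective k).1 ?_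
      rw [hk]
      exact K597.surjective_comp ha2 (K597.repWith_bc _ sq₃ hsnd2)
    · exact K597.etale_comp ha1 (K597.repWith_bc' _ sq₃ hg)
    · rw [hπ₂, hπ₁, hk, Category.assoc, Category.assoc, ← Category.assoc (pullback.fst _ _), sq₃.w, Category.assoc]

end K744.ArtV
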