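import Groth.Agent.AlgSt.K744.Art.Chart
import Groth.Agent.CurvSt.K742.AtlasMain

/-!
# Assembly of the theorem on flat charts
-/

set_option autoImplicit false
set_option linter.unusedVariables false
set_option backward.isDefEq.respectTransparency false
set_option backward.isDefEq.respectTransparency.types false

universe w v u

open CategoryTheory CategoryTheory.Limits AlgebraicGeometry Opposite AlgSp

namespace K744.ArtV

open K734.Fib K734.Rep

variable {S : Scheme.{u}}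

/-- `f` is smooth at `x` (stalk form). -/
def SmAt {X Y : Scheme.{u}} (f : X ⟶ Y) (x : X) : Prop := (f.stalkMap x).hom.FormallySmooth

theorem nonempty_iso_overMap {𝒳 : BasedCategory.{v, w} (Over S)} {F : Sp S} {W U : Over S}
    (Φ : AlgSt.ofSp F ⥤ᵇ FibCat.overCat U) (j : (yon S).obj W ⟶ F) (b : W ⟶ U)
    (hb : (yon S).map b = j ≫ AlgSt.spMapOfOver Φ) :
    Nonempty (BasedFunctor.comp (AlgSt.ofOverCat W) (BasedFunctor.comp (AlgSt.ofSpMap j) Φ) ≅ AlgSt.overMap b) := by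
  obtain ⟨i⟩ := K735.Rep.exists_iso_spMapOfOver Φ
  have h1 : BasedFunctor.comp (AlgSt.ofSpMap j) (AlgSt.ofSpMap (AlgSt.spMapOfOver Φ)) = AlgSt.ofSpMap ((yon S).map b) := by
    rw [hb]; rfl
  have h2 : BasedFunctor.comp (AlgSt.ofSpMap j) Φ ≅ BasedFunctor.comp (BasedFunctor.comp (AlgSt.ofSpMap j)
    (AlgSt.ofSpMap (AlgSt.spMapOfOver Φ))) (AlgSt.toOverCat U) := wl (AlgSt.ofSpMap j) i
  rw [h1] at h2
  exact ⟨wl (AlgSt.ofOverCat W) h2 ≪≫ Iso.refl _⟩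

/-- Points through a chart of the fibre product. -/
theorem ofChart_eq_of_fp {𝒳 : BasedCategory.{v, w} (Over S)} {U V W : Over S} {x : FibCat.overCat U ⥤ᵇ 𝒳}
    {y : FibCat.overCat V ⥤ᵇ 𝒳} {F : Sp S} (e : AlgSt.ofSp F ⥤ᵇ FibCat.fp x y) (j : (yon S).obj W ⟶ F)
    (a : W ⟶ V) (b : W ⟶ U) (ha : (yon S).map a = j ≫ AlgSt.spMapOfOver (BasedFunctor.comp e (FibCat.fpSnd x y)))
    (hb : (yon S).map b = j ≫ AlgSt.spMapOfOver (BasedFunctor.comp e (FibCat.fpFst x y))) (t : W.left) :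
    AlgSt.Points.ofChart y (a.left t) = AlgSt.Points.ofChart x (b.left t) := by
  obtain ⟨i⟩ := nonempty_iso_overMap (𝒳 := 𝒳) _ j a ha
  obtain ⟨i'⟩ := nonempty_iso_overMap (𝒳 := 𝒳) _ j b hb
  rw [← K735.PtsSp.ofChart_overMap, ← K735.PtsSp.ofChart_overMap]
  apply K735.PtsSp.ofChart_congr
  exact K734.Fib.wr i.symm y ≪≫ wl (AlgSt.ofOverCat W) (wl (AlgSt.ofSpMap j) (wl e (FibCat.fpIso x y).symm)) ≪≫
    K734.Fib.wr i' x

section Main

variable {𝒳 : BasedCategory.{v, w} (Over S)} {U : Over S} {x : FibCat.overCat U ⥤ᵇ 𝒳}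

/-- The open smooth locus of a chart `y : V ⟶ 𝒳`, tested on étale charts of `V ×_𝒳 U`. -/
def SmLocus (x : FibCat.overCat U ⥤ᵇ 𝒳) : Prop :=
  ∀ (V : Over S) (y : FibCat.overCat V ⥤ᵇ 𝒳), AlgSt.RepByAlgSpWith (LocP @LocallyOfFinitePresentation) y →
    ∃ (V₀ : Over S) (ι : V₀ ⟶ V), AlgSt.RepByAlgSpWith (LocP @Smooth) (BasedFunctor.comp (AlgSt.overMap ι) y) ∧
      ∀ {F : Sp S} (_ : IsAlgSpace F) (e : AlgSt.ofSp F ⥤ᵇ FibCat.fp x y) (_ : FibCat.IsEquivOver e) (W : Over S)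
        (j : (yon S).obj W ⟶ F) (_ : RepWith @Etale j) (a : W ⟶ V) (b : W ⟶ U)
        (_ : (yon S).map a = j ≫ AlgSt.spMapOfOver (BasedFunctor.comp e (FibCat.fpSnd x y)))
        (_ : (yon S).map b = j ≫ AlgSt.spMapOfOver (BasedFunctor.comp e (FibCat.fpFst x y))) (t : W.left),
        SmAt b.left t → a.left t ∈ Set.range ι.left

/-- The existence of smooth points on Weil restrictions along the universal finite locally free covers. -/
structure SmPt (U : Over S) {Z B : ℕ → Over S} (c : ∀ n, Z n ⟶ B n) : Prop where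
  fin : ∀ n, 0 < n → IsFinite (c n).left
  flat : ∀ n, 0 < n → Flat (c n).left
  lfp : ∀ n, 0 < n → LocallyOfFinitePresentation (c n).left
  surj : ∀ n, 0 < n → Surjective (c n).left
  base : ∀ n, 0 < n → LocallyOfFinitePresentation (B n).hom
  pt : ∀ {F : Sp S} (_ : IsAlgSpace F) (p : F ⟶ (yon S).obj U) (_ : LocP @Flat p)
    (_ : LocP @LocallyOfFinitePresentation p) (_ : IsSurjectiveMor p) (t₀ : U.left),
    ∃ (n : ℕ) (_ : 0 < n) (TB TZ : Over S) (tT : TB ⟶ U) (tB : TB ⟶ B n) (_ : Nonempty (IsLimit (BinaryFan.mk tT tB)))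
      (zT : TZ ⟶ U) (zZ : TZ ⟶ Z n) (_ : Nonempty (IsLimit (BinaryFan.mk zT zZ)))
      (c' : TZ ⟶ TB) (_ : c' ≫ tT = zT) (_ : c' ≫ tB = zZ ≫ c n)
      (W : Sp S) (f' : W ⟶ F) (w' : W ⟶ (yon S).obj TZ) (_ : IsPullback f' w' p ((yon S).map zT))
      (T : Over S) (g : (yon S).obj T ⟶ K893.Wr.Res c' w') (_ : RepWith @Etale g) (h : T ⟶ U)
      (_ : (yon S).map h = g ≫ K893.Wr.π c' w' ≫ (yon S).map tT) (t : T.left), h.left t = t₀ ∧ SmAt h.left t

theorem SmAt.comp_etale {X Y Z : Scheme.{u}} (f : X ⟶ Y) [Etale f] (g : Y ⟶ Z) {t : X} (h : SmAt g (f t)) :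
    SmAt (f ≫ g) t := by
  have hf : (f.stalkMap t).hom.FormallySmooth := Scheme.Hom.mem_smoothLocus.1 (by
    rw [Scheme.Hom.smoothLocus_eq_top]
    trivial)
  have h1 := RingHom.FormallySmooth.comp h hf
  unfold SmAt
  rw [Scheme.Hom.stalkMap_comp]
  exact h1

/-- **A stack with a flat chart, locally of finite presentation and surjective, has a family of smooth charts jointly
surjective on points.** -/
theorem exists_smooth_family (hs : Stk.IsStack (QuotSh.J Scheme.fppfPrecoverage S) 𝒳)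
    (hx1 : AlgSt.RepByAlgSpWith (LocP @Flat) x)
    (hx2 : AlgSt.RepByAlgSpWith (LocP @LocallyOfFinitePresentation) x)
    (hx3 : AlgSt.RepByAlgSpWith IsSurjectiveMor x) (hL : SmLocus x) {Z B : ℕ → Over S} {c : ∀ n, Z n ⟶ B n}
    (hc : SmPt U c) :
    ∃ (I : Type u) (U' : I → Over S) (x' : ∀ i, FibCat.overCat (U' i) ⥤ᵇ 𝒳),
      (∀ i, AlgSt.RepByAlgSpWith (LocP @Smooth) (x' i)) ∧
      ∀ p : AlgSt.Points 𝒳, ∃ (i : I) (t : ↥(U' i).left), AlgSt.Points.ofChart (x' i) t = p := by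
  have key : ∀ n : ℕ, 0 < n → ∃ (V' : Over S) (vv : FibCat.overCat V' ⥤ᵇ 𝒳), _ := fun n hn =>
    exists_chart (x := x) (c := c n) hs hx1 hx2 hx3 (hc.fin n hn) (hc.flat n hn) (hc.lfp n hn) (hc.surj n hn) (hc.base n hn)
  choose V' vv hlfp hch using key
  choose V₀ ι hsm hloc using fun (n : ℕ) (hn : 0 < n) => hL (V' n hn) (vv n hn) (hlfp n hn)
  refine ⟨ULift.{u} {n : ℕ // 0 < n}, fun i => V₀ i.down.1 i.down.2,
    fun i => BasedFunctor.comp (AlgSt.overMap (ι i.down.1 i.down.2)) (vv i.down.1 i.down.2),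
    fun i => hsm i.down.1 i.down.2, ?_⟩
  intro p
  obtain ⟨t₀, rfl⟩ := (K737.Atlas.surjective_iff hs.1 hx2).1 hx3 p
  -- the fibre product `U ×_𝒳 U`
  have hx12 : AlgSt.RepByAlgSpWith (LocP @Flat ⊓ LocP @LocallyOfFinitePresentation ⊓ IsSurjectiveMor) x :=
    K740.SpIso.repByAlgSpWith_inf (K740.SpIso.repByAlgSpWith_inf hx1 hx2) hx3
  obtain ⟨F, e, he, hF⟩ := hx12 U x
  obtain ⟨R⟩ := K738.SecRep.nonempty_of_equiv (FibCat.fpFst x x) e he
  obtain ⟨n, hn, TB, TZ, tT, tB, ⟨hTB⟩, zT, zZ, ⟨hTZ⟩, c', hc1, hc2, W, f', w', sq, T, g, hg, h, hh, t, rfl, ht⟩ :=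
    hc.pt F.property _ hF.1.1 hF.1.2 hF.2 t₀
  obtain ⟨T', k, F', e', j, hk1, hk2, hF', he', hj, hjk⟩ := hch n hn F.property R hTB hTZ hc1 hc2 sq T g hg
  obtain ⟨t', rfl⟩ := hk2.surj t
  obtain ⟨a, ha⟩ := (yon S).map_surjective (j ≫ AlgSt.spMapOfOver (BasedFunctor.comp e' (FibCat.fpSnd x (vv n hn))))
  have hb : (yon S).map (k ≫ h) = j ≫ AlgSt.spMapOfOver (BasedFunctor.comp e' (FibCat.fpFst x (vv n hn))) := by
    rw [hjk, Functor.map_comp, hh]
  have hsmt : SmAt (k ≫ h).left t' := by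
    have := SmAt.comp_etale k.left h.left ht
    simpa using this
  obtain ⟨s, hs'⟩ := hloc n hn hF' e' he' T' j hj a (k ≫ h) ha hb t' hsmt
  refine ⟨⟨n, hn⟩, s, ?_⟩
  change AlgSt.Points.ofChart (BasedFunctor.comp (AlgSt.overMap (ι n hn)) (vv n hn)) s = _
  rw [K735.PtsSp.ofChart_overMap, hs', ofChart_eq_of_fp e' j a (k ≫ h) ha hb t']
  simp

end Main

end K744.ArtV
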