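import Groth.Agent.AlgSt.K744.Art.Kos
import Mathlib.RingTheory.LocalRing.Module
import Mathlib.RingTheory.Finiteness.ModuleFinitePresentation
import Mathlib.RingTheory.Nakayama
import Mathlib.RingTheory.Flat.Tensor
import Mathlib.RingTheory.FiniteStability
import Mathlib.RingTheory.Localization.Away.AdjoinRoot

/-!
# Deformation of finite free quotients with Koszul-trivial closed fibre

* `free_of_isKos`: `C` local, `B` flat over `C`, `B/(f)` finitely presented as a module, all relations between the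
  `f i` trivial on the closed fibre: `B/(f)` is free.
* `exists_lift`: `A → D₀` lifts along a square-zero extension of local rings.
-/

set_option autoImplicit false

universe u

open TensorProduct

namespace K744.ArtLift

open K744.Kos

section Free

variable {C B : Type*} [CommRing C] [IsLocalRing C] [CommRing B] [Algebra C B]

local notation "𝔪" => IsLocalRing.maximalIdeal C

/-- `𝔪 ⊗ M → M` -/
noncomputable def th (M : Type*) [AddCommGroup M] [Module C M] : (𝔪 : Ideal C) ⊗[C] M →ₗ[C] M :=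
  (TensorProduct.lid C M).toLinearMap ∘ₗ (𝔪).subtype.rTensor M

@[simp] lemma th_tmul (M : Type*) [AddCommGroup M] [Module C M] (c : (𝔪 : Ideal C)) (m : M) :
    th M (c ⊗ₜ[C] m) = (c : C) • m := by
  simp [th]

lemma th_natural {M N : Type*} [AddCommGroup M] [Module C M] [AddCommGroup N] [Module C N] (φ : M →ₗ[C] N)
    (x : (𝔪 : Ideal C) ⊗[C] M) : th N (φ.lTensor _ x) = φ (th M x) := by
  induction x with
  | zero => simp
  | add x y hx hy => rw [map_add, map_add, hx, hy, map_add, map_add]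
  | tmul x y => simp

lemma th_mem (x : (𝔪 : Ideal C) ⊗[C] B) : th B x ∈ (𝔪).map (algebraMap C B) := by
  induction x with
  | zero => simp
  | add x y hx hy => rw [map_add]; exact Ideal.add_mem _ hx hy
  | tmul x y =>
    rw [th_tmul, Algebra.smul_def]
    exact Ideal.mul_mem_right _ _ (Ideal.mem_map_of_mem _ x.2)

lemma exists_th {b : B} (hb : b ∈ (𝔪).map (algebraMap C B)) : ∃ x : (𝔪 : Ideal C) ⊗[C] B, th B x = b := by
  refine Submodule.span_induction (p := fun b _ => ∃ x : (𝔪 : Ideal C) ⊗[C] B, th B x = b) ?_ ?_ ?_ ?_ hb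
  · rintro _ ⟨c, hc, rfl⟩
    exact ⟨(⟨c, hc⟩ : (𝔪 : Ideal C)) ⊗ₜ 1, by rw [th_tmul, Algebra.smul_def, mul_one]⟩
  · exact ⟨0, map_zero _⟩
  · rintro _ _ _ _ ⟨x, rfl⟩ ⟨y, rfl⟩
    exact ⟨x + y, map_add _ _ _⟩
  · rintro a _ _ ⟨x, rfl⟩
    refine ⟨(Algebra.lmul C B a).lTensor _ x, ?_⟩
    rw [th_natural]
    rfl

theorem free_of_isKos [Module.Flat C B] {ι : Type*} [Fintype ι] (f : ι → B)
    (h : IsKos ((𝔪).map (algebraMap C B)) f)
    [Module.FinitePresentation C (B ⧸ Ideal.span (Set.range f))] :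
    Module.Free C (B ⧸ Ideal.span (Set.range f)) := by
  apply Module.free_of_maximalIdeal_rTensor_injective
  have hB : Function.Injective (th (C := C) B) := by
    refine (TensorProduct.lid C B).injective.comp ?_
    exact Module.Flat.rTensor_preserves_injective_linearMap (𝔪).subtype Subtype.val_injective
  let π : B →ₗ[C] (B ⧸ Ideal.span (Set.range f)) := (Ideal.Quotient.mkₐ C _).toLinearMap
  have hπ : Function.Surjective π := Ideal.Quotient.mk_surjective
  suffices H : ∀ x, th (B ⧸ Ideal.span (Set.range f)) x = 0 → x = 0 by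
    rw [injective_iff_map_eq_zero]
    intro x hx
    apply H
    rw [th, LinearMap.comp_apply]
    change (TensorProduct.lid C _) ((LinearMap.rTensor _ (Submodule.subtype _)) x) = 0
    rw [hx, map_zero]
  intro x hx
  obtain ⟨x, rfl⟩ := LinearMap.lTensor_surjective (𝔪 : Ideal C) hπ x
  rw [th_natural] at hx
  have h1 : th B x ∈ Ideal.span (Set.range f) := Ideal.Quotient.eq_zero_iff_mem.1 hx
  obtain ⟨a, ha⟩ := Ideal.mem_span_range_iff_exists_fun.1 h1
  obtain ⟨b, hb⟩ := h a (by rw [ha]; exact th_mem x)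
  choose z hz using fun i => exists_th (hb i)
  have h2 : th B x = th B (∑ i, (Algebra.lmul C B (f i)).lTensor _ (z i)) := by
    rw [map_sum, ← ha]
    have h3 : ∀ i, th B ((Algebra.lmul C B (f i)).lTensor _ (z i)) = a i * f i - (∑ k, (b i k - b k i) * f k) * f i := by
      intro i
      rw [th_natural, hz, ← sub_mul]
      exact mul_comm _ _
    rw [Finset.sum_congr rfl fun i _ => h3 i, Finset.sum_sub_distrib, sum_trivial, sub_zero]
  rw [hB h2, map_sum]
  refine Finset.sum_eq_zero fun i _ => ?_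
  rw [← LinearMap.comp_apply, ← LinearMap.lTensor_comp]
  have h4 : π ∘ₗ Algebra.lmul C B (f i) = 0 := by
    ext y
    change Ideal.Quotient.mk _ (f i * y) = 0
    rw [Ideal.Quotient.eq_zero_iff_mem]
    exact Ideal.mul_mem_right _ _ (Ideal.subset_span ⟨i, rfl⟩)
  rw [h4, LinearMap.lTensor_zero, LinearMap.zero_apply]

end Free

section Lift

variable {C C₀ A D₀ : Type u} [CommRing C] [IsLocalRing C] [CommRing C₀] [CommRing A] [CommRing D₀]
  [Algebra C C₀] [Algebra C A] [Algebra C D₀] [Algebra C₀ D₀] [IsScalarTower C C₀ D₀]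

local notation "𝔪" => IsLocalRing.maximalIdeal C

/-- Nakayama: surjectivity onto `D₀` modulo `𝔪`. -/
theorem surjective_of_mod [Module.Finite C D₀] (N : Submodule C D₀)
    (h : ∀ d : D₀, ∃ a ∈ N, d - a ∈ (𝔪).map (algebraMap C D₀)) : N = ⊤ := by
  rw [← top_le_iff]
  refine Submodule.le_of_le_smul_of_le_jacobson_bot (I := 𝔪) Module.Finite.fg_top
    (IsLocalRing.maximalIdeal_le_jacobson _) ?_
  intro d _
  obtain ⟨a, ha, hd⟩ := h d
  rw [← sub_add_cancel d a]
  refine Submodule.add_mem _ (Submodule.mem_sup_right ?_) (Submodule.mem_sup_left ha)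
  rw [Ideal.smul_top_eq_map]
  exact hd

omit [IsLocalRing C] in
/-- adapting the family -/
theorem IsKos.congr {ι : Type*} [Fintype ι] {a : Ideal A} {f f' : ι → A} (h : IsKos a f)
    (hff' : ∀ i, f' i - f i ∈ a) : IsKos a f' := by
  intro x hx
  obtain ⟨b, hb⟩ := h x (by
    have h1 : ∑ i, x i * f i = ∑ i, x i * f' i - ∑ i, x i * (f' i - f i) := by
      rw [← Finset.sum_sub_distrib]
      exact Finset.sum_congr rfl fun i _ => by ring
    rw [h1]
    exact sub_mem hx (Ideal.sum_mem _ fun i _ => Ideal.mul_mem_left _ _ (hff' i)))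
  refine ⟨b, fun i => ?_⟩
  have h2 : x i - ∑ k, (b i k - b k i) * f' k =
      (x i - ∑ k, (b i k - b k i) * f k) - ∑ k, (b i k - b k i) * (f' k - f k) := by
    rw [sub_sub, ← Finset.sum_add_distrib]
    congr 1
    exact Finset.sum_congr rfl fun k _ => by ring
  rw [h2]
  exact sub_mem (hb i) (Ideal.sum_mem _ fun k _ => Ideal.mul_mem_left _ _ (hff' k))

variable (hs : Function.Surjective (algebraMap C C₀))

include hs in
/-- the kernel is generated, up to `𝔪` times itself, by the `f i`. -/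
theorem ker_le [Module.Flat C₀ D₀] (φ₀ : A →ₐ[C] D₀) (hφ : Function.Surjective φ₀) {ι : Type*} [Fintype ι] (f : ι → A)
    (hf0 : ∀ i, φ₀ (f i) = 0)
    (hker : ∀ a, φ₀ a ∈ (𝔪).map (algebraMap C D₀) → a ∈ (𝔪).map (algebraMap C A) ⊔ Ideal.span (Set.range f)) :
    RingHom.ker φ₀ ≤ Ideal.span (Set.range f) ⊔ (RingHom.ker (algebraMap C C₀)).map (algebraMap C A) ⊔
      (𝔪).map (algebraMap C A) * RingHom.ker φ₀ := by
  intro j hj
  rw [RingHom.mem_ker] at hj
  obtain ⟨m, hm, s, hs', rfl⟩ := Submodule.mem_sup.1 (hker j (by rw [hj]; exact Ideal.zero_mem _))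
  have hs0 : φ₀ s = 0 := by
    have : Ideal.span (Set.range f) ≤ RingHom.ker φ₀ := by
      rw [Ideal.span_le]
      rintro _ ⟨i, rfl⟩
      exact hf0 i
    exact this hs'
  rw [map_add, hs0, add_zero] at hj
  refine Ideal.add_mem _ ?_ (Ideal.mem_sup_left (Ideal.mem_sup_left hs'))
  -- write `m`
  obtain ⟨n, μ, g, hμ, hg⟩ : ∃ (n : ℕ) (μ : Fin n → C) (g : Fin n → A), (∀ l, μ l ∈ 𝔪) ∧
      m = ∑ l, g l * algebraMap C A (μ l) := by
    rw [Ideal.map, Ideal.span, Submodule.mem_span_set'] at hm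
    obtain ⟨n, g, t, ht⟩ := hm
    have ht' : ∀ l, ∃ q ∈ 𝔪, algebraMap C A q = (t l : A) := fun l => (t l).2
    choose μ hμ hμ' using ht'
    refine ⟨n, μ, g, hμ, ?_⟩
    rw [← ht]
    exact Finset.sum_congr rfl fun l _ => by rw [hμ', smul_eq_mul]
  have hrel : ∑ l, algebraMap C C₀ (μ l) • φ₀ (g l) = 0 := by
    rw [← hj, hg, map_sum]
    refine Finset.sum_congr rfl fun l _ => ?_
    rw [map_mul, AlgHom.commutes, mul_comm, ← Algebra.smul_def, algebraMap_smul]
  obtain ⟨κ, s₀, y, hX, hF⟩ := Module.Flat.isTrivialRelation_of_sum_smul_eq_zero (R := C₀) hrel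
  choose c hc using fun l k => hs (s₀ l k)
  choose b hb using fun k => hφ (y k)
  have h1 : ∀ l, g l - ∑ k, c l k • b k ∈ RingHom.ker φ₀ := by
    intro l
    have hXl : φ₀ (g l) = ∑ j, s₀ l j • y j := hX l
    rw [RingHom.mem_ker, map_sub, map_sum, hXl, sub_eq_zero]
    refine Finset.sum_congr rfl fun k _ => ?_
    rw [map_smul, hb, ← hc, algebraMap_smul]
  have h2 : ∀ k, ∑ l, μ l * c l k ∈ RingHom.ker (algebraMap C C₀) := by
    intro k
    rw [RingHom.mem_ker, map_sum, ← hF k]
    exact Finset.sum_congr rfl fun l _ => by rw [map_mul, hc]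
  have h3 : m = ∑ l, algebraMap C A (μ l) * (g l - ∑ k, c l k • b k) +
      ∑ k, algebraMap C A (∑ l, μ l * c l k) * b k := by
    rw [hg]
    have h4 : ∀ l, algebraMap C A (μ l) * (g l - ∑ k, c l k • b k) =
        g l * algebraMap C A (μ l) - ∑ k, algebraMap C A (μ l * c l k) * b k := by
      intro l
      rw [mul_sub, Finset.mul_sum, mul_comm]
      congr 1
      refine Finset.sum_congr rfl fun k _ => ?_
      rw [Algebra.smul_def, map_mul, mul_assoc]
    rw [Finset.sum_congr rfl fun l _ => h4 l, Finset.sum_sub_distrib, Finset.sum_comm, sub_add_eq_add_sub,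
      add_sub_assoc]
    conv_lhs => rw [← add_zero (∑ l, g l * algebraMap C A (μ l))]
    congr 1
    rw [eq_comm, sub_eq_zero]
    refine Finset.sum_congr rfl fun k _ => ?_
    rw [map_sum, Finset.sum_mul]
  rw [h3]
  refine Ideal.add_mem _ (Ideal.mem_sup_right ?_) (Ideal.mem_sup_left (Ideal.mem_sup_right ?_))
  · exact Ideal.sum_mem _ fun l _ => Ideal.mul_mem_mul (Ideal.mem_map_of_mem _ (hμ l)) (h1 l)
  · exact Ideal.sum_mem _ fun k _ => Ideal.mul_mem_right _ _ (Ideal.mem_map_of_mem _ (h2 k))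

omit [IsLocalRing C] in
include hs in
/-- the kernel is finitely generated up to the kernel of `C → C₀`. -/
theorem exists_gen [Algebra.FinitePresentation C A] [Module.Finite C₀ D₀] [Module.Free C₀ D₀] (φ₀ : A →ₐ[C] D₀)
    (hφ : Function.Surjective φ₀) :
    ∃ G : Finset A, RingHom.ker φ₀ = Ideal.span (G : Set A) ⊔
      (RingHom.ker (algebraMap C C₀)).map (algebraMap C A) := by
  classical
  have hfp : Algebra.FinitePresentation C₀ D₀ :=
    (Module.FinitePresentation.iff_finitePresentation_of_finite C₀ D₀).1 (Module.finitePresentation_of_projective C₀ D₀)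
  let Ψ : C₀ ⊗[C] A →ₐ[C₀] D₀ := Algebra.TensorProduct.lift (Algebra.ofId C₀ D₀) φ₀ (fun _ _ => Commute.all _ _)
  have hΨi : ∀ a, Ψ (1 ⊗ₜ a) = φ₀ a := fun a => by
    simp [Ψ]
  have hΨ : Function.Surjective Ψ := fun d => by
    obtain ⟨a, rfl⟩ := hφ d
    exact ⟨1 ⊗ₜ a, hΨi a⟩
  obtain ⟨G', hG'⟩ := Algebra.FinitePresentation.ker_fG_of_surjective Ψ hΨ
  have hi : Function.Surjective (Algebra.TensorProduct.includeRight : A →ₐ[C] C₀ ⊗[C] A) :=
    Algebra.TensorProduct.includeRight_surjective _ hs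
  choose g hg using hi
  -- the kernel of `A → C₀ ⊗ A`
  have hk : ∀ a : A, (1 : C₀) ⊗ₜ[C] a = 0 → a ∈ (RingHom.ker (algebraMap C C₀)).map (algebraMap C A) := by
    intro a ha
    let IA := (RingHom.ker (algebraMap C C₀)).map (algebraMap C A)
    obtain ⟨κ₀, -⟩ : ∃ κ₀ : C₀ →ₐ[C] A ⧸ IA, True := by
      let e := Ideal.quotientKerAlgEquivOfSurjective (f := Algebra.ofId C C₀) hs
      let l : (C ⧸ RingHom.ker (Algebra.ofId C C₀)) →ₐ[C] A ⧸ IA :=
        Ideal.Quotient.liftₐ (RingHom.ker (Algebra.ofId C C₀)) (Algebra.ofId C (A ⧸ IA)) (fun c hc =>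
          Ideal.Quotient.eq_zero_iff_mem.2 (Ideal.mem_map_of_mem _ hc))
      exact ⟨l.comp e.symm.toAlgHom, trivial⟩
    let Θ : C₀ ⊗[C] A →ₐ[C] A ⧸ IA := Algebra.TensorProduct.lift κ₀ (Ideal.Quotient.mkₐ C IA) (fun _ _ => Commute.all _ _)
    have h1 : Θ (1 ⊗ₜ a) = Ideal.Quotient.mk IA a := by simp [Θ]
    rw [ha, map_zero] at h1
    exact Ideal.Quotient.eq_zero_iff_mem.1 h1.symm
  refine ⟨G'.image g, le_antisymm ?_ (sup_le ?_ ?_)⟩
  · intro a ha
    have h1 : (1 : C₀) ⊗ₜ[C] a ∈ Ideal.map (Algebra.TensorProduct.includeRight : A →ₐ[C] C₀ ⊗[C] A)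
        (Ideal.span ((G'.image g : Finset A) : Set A)) := by
      have h2 : (1 : C₀) ⊗ₜ[C] a ∈ Ideal.span (G' : Set (C₀ ⊗[C] A)) := by
        have : (1 : C₀) ⊗ₜ[C] a ∈ RingHom.ker Ψ.toRingHom := by
          rw [RingHom.mem_ker]
          exact (hΨi a).trans ha
        rw [← hG'] at this
        exact this
      refine Ideal.span_le.2 ?_ h2
      intro x hx
      have h3 := Ideal.mem_map_of_mem (Algebra.TensorProduct.includeRight : A →ₐ[C] C₀ ⊗[C] A)
        (Ideal.subset_span (Finset.mem_coe.2 (Finset.mem_image_of_mem g (Finset.mem_coe.1 hx))))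
      rwa [hg] at h3
    obtain ⟨a', ha', h4⟩ := (Ideal.mem_map_iff_of_surjective _
      (Algebra.TensorProduct.includeRight_surjective _ hs)).1 h1
    have h5 : a - a' ∈ (RingHom.ker (algebraMap C C₀)).map (algebraMap C A) := by
      apply hk
      rw [TensorProduct.tmul_sub, sub_eq_zero]
      exact h4.symm
    have h6 := Ideal.add_mem _ (Ideal.mem_sup_right h5) (Ideal.mem_sup_left ha')
    rwa [sub_add_cancel] at h6
  · rw [Ideal.span_le]
    intro x hx
    obtain ⟨y, hy, rfl⟩ := Finset.mem_image.1 (Finset.mem_coe.1 hx)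
    change φ₀ (g y) = 0
    rw [← hΨi, show (1 : C₀) ⊗ₜ[C] (g y) = y from hg y]
    have : y ∈ RingHom.ker Ψ.toRingHom := by
      rw [← hG']
      exact Submodule.subset_span hy
    exact this
  · rw [Ideal.map_le_iff_le_comap]
    intro c hc
    change φ₀ (algebraMap C A c) = 0
    rw [AlgHom.commutes, IsScalarTower.algebraMap_apply C C₀ D₀, RingHom.mem_ker.1 hc, map_zero]

include hs in
/-- some `r ≡ 1 mod 𝔪` kills the kernel modulo the `f i` and the kernel of `C → C₀`. -/
theorem exists_unit [Algebra.FinitePresentation C A] [Module.Finite C₀ D₀] [Module.Free C₀ D₀] (φ₀ : A →ₐ[C] D₀)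
    (hφ : Function.Surjective φ₀) {ι : Type*} [Fintype ι] (f : ι → A) (hf0 : ∀ i, φ₀ (f i) = 0)
    (hker : ∀ a, φ₀ a ∈ (𝔪).map (algebraMap C D₀) → a ∈ (𝔪).map (algebraMap C A) ⊔ Ideal.span (Set.range f)) :
    ∃ r : A, r - 1 ∈ (𝔪).map (algebraMap C A) ∧ ∀ a ∈ RingHom.ker φ₀,
      r * a ∈ Ideal.span (Set.range f) ⊔ (RingHom.ker (algebraMap C C₀)).map (algebraMap C A) := by
  classical
  obtain ⟨G, hG⟩ := exists_gen hs φ₀ hφ
  let K : Ideal A := Ideal.span (Set.range f) ⊔ (RingHom.ker (algebraMap C C₀)).map (algebraMap C A)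
  have hle := ker_le hs φ₀ hφ f hf0 hker
  -- the submodule of `A / K`
  let N : Submodule A (A ⧸ K) := Submodule.map (Submodule.mkQ K) (RingHom.ker φ₀)
  have hN : N.FG := by
    have h1 : N = Submodule.map (Submodule.mkQ K) (Ideal.span (G : Set A)) := by
      change Submodule.map (Submodule.mkQ K) (RingHom.ker φ₀) = _
      rw [hG]
      refine le_antisymm ?_ (Submodule.map_mono le_sup_left)
      rw [Submodule.map_sup, sup_le_iff]
      refine ⟨le_rfl, ?_⟩
      rintro _ ⟨x, hx, rfl⟩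
      have : Submodule.mkQ K x = 0 := by
        rw [Submodule.mkQ_apply, Submodule.Quotient.mk_eq_zero]
        exact Ideal.mem_sup_right hx
      rw [this]
      exact Submodule.zero_mem _
    rw [h1]
    exact Submodule.FG.map _ ⟨G, rfl⟩
  have hNle : N ≤ (𝔪).map (algebraMap C A) • N := by
    rintro _ ⟨x, hx, rfl⟩
    obtain ⟨k, hk, y, hy, rfl⟩ := Submodule.mem_sup.1 (hle hx)
    rw [map_add]
    have h1 : Submodule.mkQ K k = 0 := by
      rw [Submodule.mkQ_apply, Submodule.Quotient.mk_eq_zero]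
      exact hk
    rw [h1, zero_add]
    have h2 : Submodule.mkQ K y ∈ Submodule.map (Submodule.mkQ K) ((𝔪).map (algebraMap C A) • RingHom.ker φ₀) :=
      ⟨y, hy, rfl⟩
    rw [Submodule.map_smul''] at h2
    exact h2
  obtain ⟨r, hr, hrN⟩ := Submodule.exists_sub_one_mem_and_smul_eq_zero_of_fg_of_le_smul _ N hN hNle
  refine ⟨r, hr, fun a ha => ?_⟩
  have := hrN _ ⟨a, ha, rfl⟩
  rw [← map_smul, Submodule.mkQ_apply, Submodule.Quotient.mk_eq_zero] at this
  exact this

include hs in
/-- Lifting of finite free quotients with Koszul-trivial closed fibre. -/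
theorem exists_lift [Nontrivial C₀] (hn : (RingHom.ker (algebraMap C C₀)) ^ 2 = ⊥)
    [Module.Flat C A] [Algebra.FinitePresentation C A] [Module.Finite C₀ D₀] [Module.Free C₀ D₀] (φ₀ : A →ₐ[C] D₀)
    {ι : Type*} [Fintype ι] (f : ι → A) (hf : IsKos ((𝔪).map (algebraMap C A)) f)
    (hsurj : ∀ d : D₀, ∃ a, d - φ₀ a ∈ (𝔪).map (algebraMap C D₀))
    (hker : ∀ a, φ₀ a ∈ (𝔪).map (algebraMap C D₀) ↔ a ∈ (𝔪).map (algebraMap C A) ⊔ Ideal.span (Set.range f)) :
    ∃ (D : Type u) (_ : CommRing D) (_ : Algebra C D) (_ : Module.Finite C D) (_ : Module.Free C D)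
      (φ : A →ₐ[C] D) (ρ : D →ₐ[C] D₀), Function.Surjective ρ ∧
        RingHom.ker ρ = (RingHom.ker (algebraMap C C₀)).map (algebraMap C D) ∧ ρ.comp φ = φ₀ := by
  classical
  have : Module.Finite C C₀ := Module.Finite.of_surjective (Algebra.linearMap C C₀) hs
  have : Module.Finite C D₀ := Module.Finite.trans C₀ D₀
  have hφ : Function.Surjective φ₀ := by
    have h1 := surjective_of_mod (D₀ := D₀) (LinearMap.range φ₀.toLinearMap) (fun d => by
      obtain ⟨a, ha⟩ := hsurj d
      exact ⟨φ₀ a, ⟨a, rfl⟩, ha⟩)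
    exact LinearMap.range_eq_top.1 h1
  -- adapt the family
  obtain ⟨f', hf', hf'0⟩ : ∃ f' : ι → A, (∀ i, f' i - f i ∈ (𝔪).map (algebraMap C A)) ∧ ∀ i, φ₀ (f' i) = 0 := by
    have h1 : ∀ i, ∃ m ∈ (𝔪).map (algebraMap C A), φ₀ m = φ₀ (f i) := by
      intro i
      have h2 : φ₀ (f i) ∈ (𝔪).map (algebraMap C D₀) :=
        (hker _).2 (Ideal.mem_sup_right (Ideal.subset_span ⟨i, rfl⟩))
      have h3 : (𝔪).map (algebraMap C D₀) = ((𝔪).map (algebraMap C A)).map φ₀ := by
        change _ = ((𝔪).map (algebraMap C A)).map (φ₀ : A →+* D₀)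
        rw [Ideal.map_map]
        congr 1
        exact (AlgHom.comp_algebraMap φ₀).symm
      rw [h3] at h2
      exact (Ideal.mem_map_iff_of_surjective _ hφ).1 h2
    choose m hm hm' using h1
    exact ⟨fun i => f i - m i, fun i => by rw [sub_sub_cancel_left]; exact neg_mem (hm i),
      fun i => by rw [map_sub, hm', sub_self]⟩
  have hkos : IsKos ((𝔪).map (algebraMap C A)) f' := IsKos.congr hf hf'
  have hK : ∀ a, φ₀ a ∈ (𝔪).map (algebraMap C D₀) → a ∈ (𝔪).map (algebraMap C A) ⊔ Ideal.span (Set.range f') := by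
    intro a ha
    refine (sup_le le_sup_left ?_ : (𝔪).map (algebraMap C A) ⊔ Ideal.span (Set.range f) ≤ _) ((hker a).1 ha)
    rw [Ideal.span_le]
    rintro _ ⟨i, rfl⟩
    have h1 := Ideal.add_mem _ (Ideal.mem_sup_right (Ideal.subset_span (Set.mem_range_self (f := f') i)))
      (Ideal.mem_sup_left (neg_mem (hf' i)))
    have h2 : f' i + -(f' i - f i) = f i := by ring
    rwa [h2] at h1
  obtain ⟨r, hr, hrK⟩ := exists_unit hs φ₀ hφ f' hf'0 hK
  -- `φ₀ r` is a unit
  have hmD : ∀ a ∈ (𝔪).map (algebraMap C A), φ₀ a ∈ (𝔪).map (algebraMap C D₀) := by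
    intro a ha
    have h1 := Ideal.mem_map_of_mem (φ₀ : A →+* D₀) ha
    rw [Ideal.map_map] at h1
    rwa [show (φ₀ : A →+* D₀).comp (algebraMap C A) = algebraMap C D₀ from AlgHom.comp_algebraMap φ₀] at h1
  have hru : IsUnit (φ₀ r) := by
    have h1 := surjective_of_mod (D₀ := D₀) (LinearMap.range (Algebra.lmul C D₀ (φ₀ r))) (fun d => by
      refine ⟨φ₀ r * d, ⟨d, rfl⟩, ?_⟩
      have h2 : d - φ₀ r * d = - (φ₀ (r - 1) * d) := by
        rw [map_sub, map_one]
        ring
      rw [h2]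
      exact neg_mem (Ideal.mul_mem_right _ _ (hmD _ hr)))
    obtain ⟨e, he⟩ := LinearMap.range_eq_top.1 h1 1
    exact IsUnit.of_mul_eq_one e he
  -- the localization
  let B := Localization.Away r
  have : Module.Flat A B := IsLocalization.flat B (Submonoid.powers r)
  have : Module.Flat C B := Module.Flat.trans C A B
  have : Algebra.FinitePresentation A B := IsLocalization.Away.finitePresentation r
  have : Algebra.FinitePresentation C B := Algebra.FinitePresentation.trans C A B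
  let fB : ι → B := fun i => algebraMap A B (f' i)
  let J : Ideal B := Ideal.span (Set.range fB)
  have hJfg : J.FG := Submodule.fg_span (Set.finite_range fB)
  have : Algebra.FinitePresentation C (B ⧸ J) := Algebra.FinitePresentation.quotient hJfg
  have hkosB : IsKos ((𝔪).map (algebraMap C B)) fB := by
    have h1 := hkos.baseChange (B := B)
    rw [Ideal.map_map, ← IsScalarTower.algebraMap_eq] at h1
    exact h1
  let ρB : B →ₐ[C] D₀ := IsLocalization.liftAlgHom (M := Submonoid.powers r) (f := φ₀) (by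
    rintro ⟨_, n, rfl⟩
    exact (map_pow φ₀ r n) ▸ hru.pow n)
  have hρB : ∀ a, ρB (algebraMap A B a) = φ₀ a := fun a => IsLocalization.lift_eq _ a
  have hJ0 : ∀ b ∈ J, ρB b = 0 := by
    have : J ≤ RingHom.ker ρB := by
      rw [Ideal.span_le]
      rintro _ ⟨i, rfl⟩
      exact (hρB _).trans (hf'0 i)
    exact fun b hb => this hb
  let ρ : (B ⧸ J) →ₐ[C] D₀ := Ideal.Quotient.liftₐ J ρB hJ0
  have hρ : ∀ b, ρ (Ideal.Quotient.mk J b) = ρB b := fun b => rfl
  let φ : A →ₐ[C] (B ⧸ J) := (Ideal.Quotient.mkₐ C J).comp (IsScalarTower.toAlgHom C A B)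
  have hρs : Function.Surjective ρ := fun d => by
    obtain ⟨a, rfl⟩ := hφ d
    exact ⟨Ideal.Quotient.mk J (algebraMap A B a), (hρ _).trans (hρB a)⟩
  have hkerρ : RingHom.ker ρ = (RingHom.ker (algebraMap C C₀)).map (algebraMap C (B ⧸ J)) := by
    apply le_antisymm
    · intro d hd
      obtain ⟨b, rfl⟩ := Ideal.Quotient.mk_surjective d
      obtain ⟨⟨a, ⟨_, n, rfl⟩⟩, hb⟩ := IsLocalization.surj (Submonoid.powers r) b
      have hb' : b * algebraMap A B (r ^ n) = algebraMap A B a := hb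
      have h1 : φ₀ a = 0 := by
        rw [← hρB, ← hb', map_mul]
        have : ρB b = 0 := hd
        rw [this, zero_mul]
      have h2 := hrK a h1
      have hunit : IsUnit (algebraMap A B r) := IsLocalization.Away.algebraMap_isUnit r
      have h3 : (Ideal.span (Set.range f') ⊔ (RingHom.ker (algebraMap C C₀)).map (algebraMap C A)).map
          ((Ideal.Quotient.mk J).comp (algebraMap A B)) ≤
          (RingHom.ker (algebraMap C C₀)).map (algebraMap C (B ⧸ J)) := by
        rw [Ideal.map_sup, sup_le_iff]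
        constructor
        · rw [Ideal.map_span, Ideal.span_le]
          rintro _ ⟨_, ⟨i, rfl⟩, rfl⟩
          have : ((Ideal.Quotient.mk J).comp (algebraMap A B)) (f' i) = 0 :=
            Ideal.Quotient.eq_zero_iff_mem.2 (Ideal.subset_span ⟨i, rfl⟩)
          rw [this]
          exact Ideal.zero_mem _
        · rw [Ideal.map_map]
          exact le_of_eq rfl
      have h4 := h3 (Ideal.mem_map_of_mem ((Ideal.Quotient.mk J).comp (algebraMap A B)) h2)
      rw [RingHom.comp_apply, map_mul, ← hb', map_pow, map_mul, map_mul, map_pow] at h4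
      have hu : IsUnit (Ideal.Quotient.mk J (algebraMap A B r)) := hunit.map _
      rw [Ideal.unit_mul_mem_iff_mem _ hu, Ideal.mul_unit_mem_iff_mem _ (hu.pow n)] at h4
      exact h4
    · rw [Ideal.map_le_iff_le_comap]
      intro c hc
      change ρ (algebraMap C (B ⧸ J) c) = 0
      rw [AlgHom.commutes, IsScalarTower.algebraMap_apply C C₀ D₀, RingHom.mem_ker.1 hc, map_zero]
  -- finiteness
  have hfin : Module.Finite C (B ⧸ J) := by
    obtain ⟨T, hT⟩ := (Module.Finite.fg_top : (⊤ : Submodule C D₀).FG)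
    choose σ hσ using hρs
    let N : Submodule C (B ⧸ J) := Submodule.span C ((T.image σ : Finset (B ⧸ J)) : Set (B ⧸ J))
    have hN1 : ∀ d, ∃ n ∈ N, d - n ∈ (RingHom.ker (algebraMap C C₀)) • (⊤ : Submodule C (B ⧸ J)) := by
      intro d
      have h1 : ρ d ∈ N.map ρ.toLinearMap := by
        have h2 : (⊤ : Submodule C D₀) ≤ N.map ρ.toLinearMap := by
          rw [← hT, Submodule.span_le]
          intro t ht
          exact ⟨σ t, Submodule.subset_span (Finset.mem_coe.2 (Finset.mem_image_of_mem σ ht)), hσ t⟩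
        exact h2 trivial
      obtain ⟨n, hn, hnd⟩ := h1
      refine ⟨n, hn, ?_⟩
      rw [Ideal.smul_top_eq_map]
      change d - n ∈ (RingHom.ker (algebraMap C C₀)).map (algebraMap C (B ⧸ J))
      rw [← hkerρ, RingHom.mem_ker, map_sub, sub_eq_zero]
      exact hnd.symm
    have hN2 : (⊤ : Submodule C (B ⧸ J)) ≤ N ⊔ (RingHom.ker (algebraMap C C₀)) • ⊤ := by
      intro d _
      obtain ⟨n, hn, hd⟩ := hN1 d
      rw [← sub_add_cancel d n]
      exact Submodule.add_mem _ (Submodule.mem_sup_right hd) (Submodule.mem_sup_left hn)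
    have hN3 : (RingHom.ker (algebraMap C C₀)) • (⊤ : Submodule C (B ⧸ J)) ≤ N := by
      refine (Submodule.smul_mono le_rfl hN2).trans ?_
      rw [Submodule.smul_sup, ← Submodule.mul_smul, ← pow_two, hn, Submodule.bot_smul, sup_bot_eq]
      exact Submodule.smul_le_right
    refine ⟨T.image σ, ?_⟩
    rw [← top_le_iff]
    exact hN2.trans (sup_le le_rfl hN3)
  have hfp : Module.FinitePresentation C (B ⧸ J) := Module.FinitePresentation.of_finite_of_finitePresentation C (B ⧸ J)
  have hfree : Module.Free C (B ⧸ J) := free_of_isKos fB hkosB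
  refine ⟨B ⧸ J, inferInstance, inferInstance, hfin, hfree, φ, ρ, hρs, hkerρ, ?_⟩
  ext a
  exact (hρ _).trans (hρB a)

end Lift

end K744.ArtLift
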