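import Groth.Agent.AlgSt.K744.Art.Univ
import Groth.Agent.AlgSt.K744.Art.Lift
import Mathlib.LinearAlgebra.TensorProduct.RightExactness
import Mathlib.RingTheory.RingHom.Flat

/-!
# Good points of `Pt` and their deformations
-/

set_option autoImplicit false

universe u

open TensorProduct

namespace K744

open Kos

namespace Pt

variable {R A : Type u} [CommRing R] [CommRing A] [Algebra R A] {n : ℕ}

/-- the induced map `C ⊗ A → β.Alg` -/
noncomputable def ex {C : Type u} [CommRing C] [Algebra R C] (x : Pt R A n C) : C ⊗[R] A →ₐ[C] x.β.Alg :=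
  letI : Algebra R x.β.Alg := ((algebraMap C x.β.Alg).comp (algebraMap R C)).toAlgebra
  haveI : IsScalarTower R C x.β.Alg := IsScalarTower.of_algebraMap_eq fun _ => rfl
  Algebra.TensorProduct.lift (Algebra.ofId C x.β.Alg) ({ toRingHom := x.φ, commutes' := x.w } : A →ₐ[R] x.β.Alg)
    (fun _ _ => Commute.all _ _)

@[simp] lemma ex_tmul {C : Type u} [CommRing C] [Algebra R C] (x : Pt R A n C) (c : C) (a : A) :
    x.ex (c ⊗ₜ a) = algebraMap C x.β.Alg c * x.φ a := rfl

/-- two ring maps out of `C ⊗ A` are equal if they agree on both factors -/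
theorem tensor_hom_ext {C T : Type u} [CommRing C] [Algebra R C] [CommRing T] {f g : C ⊗[R] A →+* T}
    (h1 : ∀ c, f (c ⊗ₜ 1) = g (c ⊗ₜ 1)) (h2 : ∀ a, f (1 ⊗ₜ a) = g (1 ⊗ₜ a)) : f = g := by
  refine RingHom.ext fun z => ?_
  induction z with
  | zero => rw [map_zero, map_zero]
  | add x y hx hy => rw [map_add, map_add, hx, hy]
  | tmul c a =>
    have : c ⊗ₜ[R] a = (c ⊗ₜ[R] 1) * (1 ⊗ₜ[R] a) := by
      rw [Algebra.TensorProduct.tmul_mul_tmul, mul_one, one_mul]
    rw [this, map_mul, map_mul, h1, h2]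

/-- base change of the first factor -/
noncomputable abbrev bcm {C C' : Type u} [CommRing C] [Algebra R C] [CommRing C'] [Algebra R C'] (A : Type u) [CommRing A]
    [Algebra R A] (t : C →ₐ[R] C') : C ⊗[R] A →ₐ[R] C' ⊗[R] A := Algebra.TensorProduct.map t (AlgHom.id R A)

theorem ex_map {C C' : Type u} [CommRing C] [Algebra R C] [CommRing C'] [Algebra R C'] (t : C →ₐ[R] C')
    (x : Pt R A n C) (z : C ⊗[R] A) : (x.map t).ex (bcm A t z) = SC.mapHom t.toRingHom x.β (x.ex z) := by
  have h : ((x.map t).ex.toRingHom.comp (bcm A t).toRingHom) = (SC.mapHom t.toRingHom x.β).comp x.ex.toRingHom := by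
    apply tensor_hom_ext
    · intro c
      change (x.map t).ex ((bcm A t) (c ⊗ₜ 1)) = SC.mapHom t.toRingHom x.β (x.ex (c ⊗ₜ 1))
      rw [Algebra.TensorProduct.map_tmul, ex_tmul, ex_tmul, map_mul, map_one, map_one, map_one, map_one, mul_one, mul_one]
      exact (SC.mapHom_algebraMap t.toRingHom x.β c).symm
    · intro a
      change (x.map t).ex ((bcm A t) (1 ⊗ₜ a)) = SC.mapHom t.toRingHom x.β (x.ex (1 ⊗ₜ a))
      rw [Algebra.TensorProduct.map_tmul, ex_tmul, ex_tmul, map_mul, map_one, map_one, map_one, map_one, one_mul, one_mul]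
      rfl
  exact DFunLike.congr_fun h z

/-- `C ⊗ A → β.Alg` is a surjection whose kernel is generated by a family with only trivial relations -/
def Good {C : Type u} [CommRing C] [Algebra R C] (x : Pt R A n C) : Prop :=
  Function.Surjective x.ex ∧ ∃ (ι : Type) (_ : Fintype ι) (f : ι → C ⊗[R] A), IsKos (⊥ : Ideal (C ⊗[R] A)) f ∧
    RingHom.ker x.ex = Ideal.span (Set.range f)

theorem Good.map {C C' : Type u} [CommRing C] [Algebra R C] [CommRing C'] [Algebra R C'] {x : Pt R A n C}
    (h : x.Good) (t : C →ₐ[R] C') (ht : (bcm A t).toRingHom.Flat) : (x.map t).Good := by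
  obtain ⟨hs, ι, _, f, hf, hker⟩ := h
  let θ := bcm A t
  have hsurj : Function.Surjective (x.map t).ex := by
    intro z
    rw [SC.eq_sum_bv _ z]
    have h1 : ∀ i, ∃ w, (x.map t).ex w = SC.bv (x.map t).β i := by
      intro i
      obtain ⟨w, hw⟩ := hs (SC.bv x.β i)
      exact ⟨bcm A t w, by rw [ex_map, hw]; exact SC.mapHom_bv _ _ _⟩
    choose w hw using h1
    refine ⟨∑ i, algebraMap C' (C' ⊗[R] A) (z.c i) * w i, ?_⟩
    rw [map_sum]
    exact Finset.sum_congr rfl fun i _ => by rw [map_mul, AlgHom.commutes, hw]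
  refine ⟨hsurj, ι, inferInstance, fun i => θ (f i), ?_, ?_⟩
  · let : Algebra (C ⊗[R] A) (C' ⊗[R] A) := θ.toRingHom.toAlgebra
    have : Module.Flat (C ⊗[R] A) (C' ⊗[R] A) := ht
    have h1 := hf.baseChange (B := C' ⊗[R] A)
    rw [Ideal.map_bot] at h1
    exact h1
  · apply le_antisymm
    · intro z hz
      let J : Ideal (C' ⊗[R] A) := Ideal.span (Set.range fun i => θ (f i))
      let v₀ : C ⊗[R] A →+* (C' ⊗[R] A) ⧸ J := (Ideal.Quotient.mk J).comp θ.toRingHom
      have hv₀ : RingHom.ker x.ex.toRingHom ≤ RingHom.ker v₀ := by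
        change RingHom.ker x.ex ≤ _
        rw [hker, Ideal.span_le]
        rintro _ ⟨i, rfl⟩
        exact Ideal.Quotient.eq_zero_iff_mem.2 (Ideal.subset_span ⟨i, rfl⟩)
      let v : x.β.Alg →+* (C' ⊗[R] A) ⧸ J := RingHom.liftOfSurjective x.ex.toRingHom hs ⟨v₀, hv₀⟩
      have hv : ∀ w, v (x.ex w) = v₀ w := fun w => RingHom.liftOfSurjective_comp_apply x.ex.toRingHom hs ⟨v₀, hv₀⟩ w
      let a : C' →+* (C' ⊗[R] A) ⧸ J := (Ideal.Quotient.mk J).comp (algebraMap C' (C' ⊗[R] A))
      have hav : a.comp t.toRingHom = v.comp (algebraMap C x.β.Alg) := by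
        refine RingHom.ext fun c => ?_
        have h1 := hv (algebraMap C _ c)
        rw [AlgHom.commutes] at h1
        refine Eq.trans ?_ h1.symm
        change Ideal.Quotient.mk J (t c ⊗ₜ 1) = Ideal.Quotient.mk J ((bcm A t) (c ⊗ₜ 1))
        rw [Algebra.TensorProduct.map_tmul, map_one]
      let χ := SC.desc t.toRingHom x.β a v hav
      have hχ : χ.comp (x.map t).ex.toRingHom = Ideal.Quotient.mk J := by
        apply tensor_hom_ext
        · intro c
          change χ ((x.map t).ex (algebraMap C' _ c)) = _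
          rw [AlgHom.commutes]
          exact SC.desc_algebraMap t.toRingHom x.β a v hav c
        · intro b
          have h1 : (x.map t).ex (1 ⊗ₜ b) = SC.mapHom t.toRingHom x.β (x.ex (1 ⊗ₜ b)) := by
            rw [← ex_map, Algebra.TensorProduct.map_tmul, map_one]
            rfl
          change χ ((x.map t).ex (1 ⊗ₜ b)) = _
          rw [h1]
          refine (SC.desc_mapHom t.toRingHom x.β a v hav _).trans ?_
          rw [hv]
          change Ideal.Quotient.mk J ((bcm A t) (1 ⊗ₜ b)) = _
          rw [Algebra.TensorProduct.map_tmul, map_one]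
          rfl
      have h3 : (x.map t).ex z = 0 := hz
      have h4 : χ ((x.map t).ex z) = Ideal.Quotient.mk J z := DFunLike.congr_fun hχ z
      have h5 : χ ((x.map t).ex z) = 0 := (congrArg χ h3).trans (map_zero χ)
      exact Ideal.Quotient.eq_zero_iff_mem.1 (h4.symm.trans h5)
    · rw [Ideal.span_le]
      rintro _ ⟨i, rfl⟩
      change (x.map t).ex (bcm A t (f i)) = 0
      rw [ex_map]
      have : x.ex (f i) = 0 := by
        have h1 : f i ∈ RingHom.ker x.ex := by
          rw [hker]
          exact Ideal.subset_span ⟨i, rfl⟩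
        exact h1
      rw [this, map_zero]
      rfl

end Pt

end K744
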