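import Mathlib.RingTheory.Flat.EquationalCriterion
import Mathlib.RingTheory.Localization.Free
import Mathlib.RingTheory.NoetherNormalization
import Mathlib.RingTheory.Polynomial.Quotient
import Mathlib.RingTheory.AdjoinRoot
import Mathlib.RingTheory.Flat.Basic
import Mathlib.RingTheory.Flat.Localization
import Mathlib.RingTheory.Ideal.GoingUp
import Mathlib.RingTheory.Polynomial.Basic

/-!
# Koszul-trivial relations

`IsKos a f`: modulo the ideal `a` every relation among the `f i` is a combination of the trivial relations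
`f k * f i - f i * f k = 0`.

* `IsKos.baseChange`: stable under flat base change;
* `IsKosM`: module version; `IsKosM.of_flat`, `IsKosM.of_localized`;
* `exists_system`: a nonzero algebra of finite type over a field has a finite family `f` all of whose relations
  are trivial, with finite nonzero quotient.
-/

set_option autoImplicit false

universe u

namespace K744.Kos

section Def

variable {Q : Type*} [CommRing Q] {ι : Type*} [Fintype ι]

/-- modulo `a` every relation among the `f i` is trivial -/
def IsKos (a : Ideal Q) (f : ι → Q) : Prop :=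
  ∀ x : ι → Q, ∑ i, x i * f i ∈ a → ∃ b : ι → ι → Q, ∀ i, x i - ∑ k, (b i k - b k i) * f k ∈ a

/-- module version: every relation `∑ f i • x i = 0` is trivial -/
def IsKosM (f : ι → Q) (M : Type*) [AddCommGroup M] [Module Q M] : Prop :=
  ∀ x : ι → M, ∑ i, f i • x i = 0 → ∃ b : ι → ι → M, ∀ i, x i = ∑ k, f k • (b i k - b k i)

theorem isKos_bot_iff (f : ι → Q) : IsKos (⊥ : Ideal Q) f ↔ IsKosM f Q := by
  constructor
  · intro h x hx
    obtain ⟨b, hb⟩ := h x (by
      rw [Ideal.mem_bot, ← hx]
      exact Finset.sum_congr rfl fun i _ => mul_comm _ _)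
    refine ⟨b, fun i => ?_⟩
    have := hb i
    rw [Ideal.mem_bot, sub_eq_zero] at this
    rw [this]
    exact Finset.sum_congr rfl fun k _ => mul_comm _ _
  · intro h x hx
    obtain ⟨b, hb⟩ := h x (by
      rw [Ideal.mem_bot] at hx
      rw [← hx]
      exact Finset.sum_congr rfl fun i _ => mul_comm _ _)
    refine ⟨b, fun i => ?_⟩
    rw [Ideal.mem_bot, sub_eq_zero, hb i]
    exact Finset.sum_congr rfl fun k _ => mul_comm _ _

/-- trivial relations are relations -/
theorem sum_trivial (f : ι → Q) (b : ι → ι → Q) : ∑ i, (∑ k, (b i k - b k i) * f k) * f i = 0 := by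
  have h1 : ∑ i, (∑ k, (b i k - b k i) * f k) * f i =
      ∑ i, ∑ k, b i k * f k * f i - ∑ i, ∑ k, b k i * f k * f i := by
    rw [← Finset.sum_sub_distrib]
    refine Finset.sum_congr rfl fun i _ => ?_
    rw [Finset.sum_mul, ← Finset.sum_sub_distrib]
    exact Finset.sum_congr rfl fun k _ => by ring
  rw [h1, Finset.sum_comm (f := fun i k => b k i * f k * f i), sub_eq_zero]
  exact Finset.sum_congr rfl fun i _ => Finset.sum_congr rfl fun k _ => by ring

/-- flat base change -/
theorem IsKos.baseChange {B : Type*} [CommRing B] [Algebra Q B] [Module.Flat Q B] {a : Ideal Q} {f : ι → Q}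
    (h : IsKos a f) : IsKos (a.map (algebraMap Q B)) (fun i => algebraMap Q B (f i)) := by
  intro x hx
  -- write the element of the extended ideal as a combination
  obtain ⟨n, m, g, hm, hg⟩ : ∃ (n : ℕ) (m : Fin n → Q) (g : Fin n → B), (∀ l, m l ∈ a) ∧
      ∑ i, x i * algebraMap Q B (f i) = ∑ l, g l * algebraMap Q B (m l) := by
    rw [Ideal.map, Ideal.span, Submodule.mem_span_set'] at hx
    obtain ⟨n, g, s, hs⟩ := hx
    have hs' : ∀ l, ∃ q ∈ a, algebraMap Q B q = (s l : B) := fun l => (s l).2
    choose m hm hm' using hs'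
    refine ⟨n, m, g, hm, ?_⟩
    rw [← hs]
    exact Finset.sum_congr rfl fun l _ => by rw [hm', smul_eq_mul]
  -- the relation
  let F : ι ⊕ Fin n → Q := Sum.elim f m
  let X : ι ⊕ Fin n → B := Sum.elim x (fun l => - g l)
  have hrel : ∑ i, F i • X i = 0 := by
    rw [Fintype.sum_sum_type]
    simp only [F, X, Sum.elim_inl, Sum.elim_inr, Algebra.smul_def]
    have h1 : ∑ i, algebraMap Q B (f i) * x i = ∑ l, g l * algebraMap Q B (m l) := by
      rw [← hg]
      exact Finset.sum_congr rfl fun i _ => mul_comm _ _
    rw [h1, ← Finset.sum_add_distrib]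
    exact Finset.sum_eq_zero fun l _ => by ring
  obtain ⟨κ, s, y, hX, hF⟩ := Module.Flat.isTrivialRelation_of_sum_smul_eq_zero (R := Q) hrel
  have hs : ∀ j, ∑ i, s (Sum.inl i) j * f i ∈ a := by
    intro j
    have h2 := hF j
    rw [Fintype.sum_sum_type] at h2
    simp only [F, Sum.elim_inl, Sum.elim_inr] at h2
    have h3 : ∑ i, s (Sum.inl i) j * f i = - ∑ l, m l * s (Sum.inr l) j := by
      rw [← add_eq_zero_iff_eq_neg, ← h2]
      congr 1
      exact Finset.sum_congr rfl fun i _ => mul_comm _ _
    rw [h3]
    exact a.neg_mem (a.sum_mem fun l _ => a.mul_mem_right _ (hm l))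
  choose b hb using fun j => h _ (hs j)
  refine ⟨fun i k => ∑ j, algebraMap Q B (b j i k) * y j, fun i => ?_⟩
  have h4 : x i - ∑ k, ((∑ j, algebraMap Q B (b j i k) * y j) - ∑ j, algebraMap Q B (b j k i) * y j) *
        algebraMap Q B (f k) =
      ∑ j, algebraMap Q B (s (Sum.inl i) j - ∑ k, (b j i k - b j k i) * f k) * y j := by
    have h5 : x i = ∑ j, algebraMap Q B (s (Sum.inl i) j) * y j := by
      have := hX (Sum.inl i)
      simp only [X, Sum.elim_inl, Algebra.smul_def] at this
      exact this
    have h6 : ∀ j, algebraMap Q B (s (Sum.inl i) j - ∑ k, (b j i k - b j k i) * f k) * y j =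
        algebraMap Q B (s (Sum.inl i) j) * y j -
          ∑ k, (algebraMap Q B (b j i k) * y j - algebraMap Q B (b j k i) * y j) * algebraMap Q B (f k) := by
      intro j
      rw [map_sub, map_sum, sub_mul, Finset.sum_mul]
      congr 1
      exact Finset.sum_congr rfl fun k _ => by rw [map_mul, map_sub]; ring
    rw [Finset.sum_congr rfl fun j _ => h6 j, Finset.sum_sub_distrib, ← h5, Finset.sum_comm]
    congr 1
    refine Finset.sum_congr rfl fun k _ => ?_
    rw [← Finset.sum_sub_distrib, Finset.sum_mul]
  rw [h4]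
  exact Ideal.sum_mem _ fun j _ => Ideal.mul_mem_right _ _ (Ideal.mem_map_of_mem _ (hb j i))

/-- the property may be tested in the quotient -/
theorem isKos_of_surjective {B : Type*} [CommRing B] (π : Q →+* B) (hπ : Function.Surjective π) {a : Ideal Q}
    (ha : RingHom.ker π = a) {f : ι → Q} (h : IsKos (⊥ : Ideal B) (fun i => π (f i))) : IsKos a f := by
  subst ha
  intro x hx
  obtain ⟨b, hb⟩ := h (fun i => π (x i)) (by
    rw [Ideal.mem_bot]
    rw [RingHom.mem_ker, map_sum] at hx
    simpa only [map_mul] using hx)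
  choose β hβ using fun i k => hπ (b i k)
  refine ⟨β, fun i => ?_⟩
  have := hb i
  rw [Ideal.mem_bot] at this
  rw [RingHom.mem_ker, map_sub, map_sum, ← this]
  congr 1
  refine Finset.sum_congr rfl fun k _ => ?_
  rw [map_mul, map_sub, hβ, hβ]

theorem isKosM_of_flat {f : ι → Q} (h : IsKosM f Q) (M : Type*) [AddCommGroup M] [Module Q M] [Module.Flat Q M] :
    IsKosM f M := by
  intro x hx
  obtain ⟨κ, s, y, hX, hF⟩ := Module.Flat.isTrivialRelation_of_sum_smul_eq_zero (R := Q) hx
  choose b hb using fun j => h (fun i => s i j) (hF j)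
  refine ⟨fun i k => ∑ j, b j i k • y j, fun i => ?_⟩
  rw [hX i]
  have h1 : ∀ k, f k • ((∑ j, b j i k • y j) - ∑ j, b j k i • y j) = ∑ j, (f k * (b j i k - b j k i)) • y j := by
    intro k
    rw [← Finset.sum_sub_distrib, Finset.smul_sum]
    exact Finset.sum_congr rfl fun j _ => by rw [mul_smul, sub_smul]
  rw [Finset.sum_congr rfl fun k _ => h1 k, Finset.sum_comm]
  refine Finset.sum_congr rfl fun j _ => ?_
  rw [hb j i, Finset.sum_smul]
  rfl

/-- Let `g` be invertible modulo the `f i`. If all relations in `M[1/g]` are trivial then so are those in `M`. -/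
theorem isKosM_of_localized {f : ι → Q} (g : Q) (hg : Ideal.span (Set.range f) ⊔ Ideal.span {g} = ⊤)
    (M : Type*) [AddCommGroup M] [Module Q M]
    (h : IsKosM f (LocalizedModule (Submonoid.powers g) M)) : IsKosM f M := by
  intro x hx
  -- the relations which are trivial form a submodule
  let N : Submodule Q (ι → M) :=
    { carrier := {x | ∃ b : ι → ι → M, ∀ i, x i = ∑ k, f k • (b i k - b k i)}
      add_mem' := by
        rintro x y ⟨b, hb⟩ ⟨c, hc⟩
        refine ⟨fun i k => b i k + c i k, fun i => ?_⟩
        rw [Pi.add_apply, hb, hc, ← Finset.sum_add_distrib]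
        exact Finset.sum_congr rfl fun k _ => by rw [← smul_add]; congr 1; dsimp only; abel
      zero_mem' := ⟨0, fun i => by simp⟩
      smul_mem' := by
        rintro q x ⟨b, hb⟩
        refine ⟨fun i k => q • b i k, fun i => ?_⟩
        rw [Pi.smul_apply, hb, Finset.smul_sum]
        exact Finset.sum_congr rfl fun k _ => by rw [← smul_sub, smul_comm] }
  let I : Ideal Q := (N.colon {x})
  have hI : ∀ q, q ∈ I ↔ q • x ∈ N := fun q => by
    simp only [I, Submodule.mem_colon_singleton]
  suffices H : (1 : Q) ∈ I by
    have := (hI 1).1 H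
    rw [one_smul] at this
    exact this
  have hf : ∀ k, f k ∈ I := by
    classical
    intro k
    rw [hI]
    refine ⟨fun i j => if j = k then x i else 0, fun i => ?_⟩
    rw [Pi.smul_apply]
    have h1 : ∑ j, f j • ((if j = k then x i else 0) - (if i = k then x j else 0)) =
        f k • x i - ∑ j, (if i = k then f j • x j else 0) := by
      have : ∀ j, f j • ((if j = k then x i else 0) - (if i = k then x j else 0)) =
          (if j = k then f k • x i else 0) - (if i = k then f j • x j else 0) := by
        intro j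
        rw [smul_sub]
        split_ifs <;> simp_all
      rw [Finset.sum_congr rfl fun j _ => this j, Finset.sum_sub_distrib]
      simp
    rw [h1]
    split_ifs with hik
    · rw [hx, sub_zero]
    · simp
  -- a power of g
  obtain ⟨b', hb'⟩ := h (fun i => LocalizedModule.mkLinearMap (Submonoid.powers g) M (x i)) (by
    have := congrArg (LocalizedModule.mkLinearMap (Submonoid.powers g) M) hx
    rw [map_sum, map_zero] at this
    simpa only [map_smul] using this)
  obtain ⟨⟨_, N₁, rfl⟩, hN₁⟩ := IsLocalizedModule.exist_integer_multiples (Submonoid.powers g)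
    (LocalizedModule.mkLinearMap (Submonoid.powers g) M) (Finset.univ : Finset (ι × ι)) (fun p => b' p.1 p.2)
  choose β hβ using fun i k => hN₁ (i, k) (Finset.mem_univ _)
  have key : ∀ i, ∃ n : ℕ, g ^ n • (g ^ N₁ • x i - ∑ k, f k • (β i k - β k i)) = 0 := by
    intro i
    have h1 : LocalizedModule.mkLinearMap (Submonoid.powers g) M (g ^ N₁ • x i - ∑ k, f k • (β i k - β k i)) = 0 := by
      rw [map_sub, map_smul, map_sum, hb' i, Finset.smul_sum, sub_eq_zero]
      refine Finset.sum_congr rfl fun k _ => ?_
      rw [map_smul, map_sub, hβ, hβ, ← smul_sub, smul_comm]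
    rw [← map_zero (LocalizedModule.mkLinearMap (Submonoid.powers g) M),
      IsLocalizedModule.eq_iff_exists (Submonoid.powers g)] at h1
    obtain ⟨⟨_, n, rfl⟩, hn⟩ := h1
    refine ⟨n, ?_⟩
    rw [smul_zero] at hn
    exact hn
  choose n hn using key
  have hgI : g ^ (∑ i, n i + N₁) ∈ I := by
    rw [hI]
    refine ⟨fun i k => g ^ (∑ i, n i) • β i k, fun i => ?_⟩
    have h2 : g ^ (∑ i, n i) • (g ^ N₁ • x i - ∑ k, f k • (β i k - β k i)) = 0 := by
      classical
      rw [← Finset.add_sum_erase _ _ (Finset.mem_univ i), add_comm, pow_add, mul_smul, hn i, smul_zero]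
    rw [smul_sub, sub_eq_zero] at h2
    rw [Pi.smul_apply, pow_add, mul_smul, h2, Finset.smul_sum]
    exact Finset.sum_congr rfl fun k _ => by rw [← smul_sub, smul_comm]
  -- conclusion
  have h3 : Ideal.span (Set.range f) ⊔ Ideal.span {g ^ (∑ i, n i + N₁)} = ⊤ := by
    rw [← Ideal.span_singleton_pow]
    exact Ideal.sup_pow_eq_top hg
  have h4 : Ideal.span (Set.range f) ⊔ Ideal.span {g ^ (∑ i, n i + N₁)} ≤ I := by
    refine sup_le ?_ ?_
    · rw [Ideal.span_le]
      rintro _ ⟨k, rfl⟩
      exact hf k
    · rw [Ideal.span_le, Set.singleton_subset_iff]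
      exact hgI
  rw [h3] at h4
  exact h4 trivial

/-- adding one element which is a nonzerodivisor modulo the others -/
theorem isKos_option {f : ι → Q} (hf : IsKos (⊥ : Ideal Q) f) (h : Q)
    (hh : ∀ y, h * y ∈ Ideal.span (Set.range f) → y ∈ Ideal.span (Set.range f)) :
    IsKos (⊥ : Ideal Q) (fun i : Option ι => i.elim h f) := by
  intro x hx
  rw [Ideal.mem_bot, Fintype.sum_option] at hx
  simp only [Option.elim_none, Option.elim_some] at hx
  have h1 : x none ∈ Ideal.span (Set.range f) := by
    apply hh
    have : h * x none = - ∑ i, x (some i) * f i := by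
      rw [← add_eq_zero_iff_eq_neg, mul_comm]
      exact hx
    rw [this]
    exact neg_mem (Ideal.sum_mem _ fun i _ => Ideal.mul_mem_left _ _ (Ideal.subset_span ⟨i, rfl⟩))
  obtain ⟨t, ht⟩ := Ideal.mem_span_range_iff_exists_fun.1 h1
  obtain ⟨b, hb⟩ := hf (fun i => x (some i) + t i * h) (by
    rw [Ideal.mem_bot, ← hx, ← ht, Finset.sum_mul, ← Finset.sum_add_distrib]
    exact Finset.sum_congr rfl fun i _ => by ring)
  refine ⟨fun i k => match i, k with
    | some i, some k => b i k
    | none, some i => t i
    | some _, none => 0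
    | none, none => 0, fun i => ?_⟩
  rw [Ideal.mem_bot, Fintype.sum_option]
  cases i with
  | none =>
    simp only [sub_self, zero_mul, zero_add, sub_zero, Option.elim_some]
    rw [← ht, sub_self]
  | some i =>
    have := hb i
    rw [Ideal.mem_bot] at this
    simp only [Option.elim_some, Option.elim_none]
    linear_combination this

end Def

section System

/-- a finite nonzero quotient of `S` by elements with only trivial relations, in which `g` is invertible. -/
def HasSys (κ S : Type u) [Field κ] [CommRing S] [Algebra κ S] (g : S) : Prop :=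
  ∃ (ι : Type) (_ : Fintype ι) (f : ι → S) (T : Type u) (_ : CommRing T) (_ : Algebra κ T) (π : S →ₐ[κ] T),
    Module.Finite κ T ∧ Nontrivial T ∧ Function.Surjective π ∧ RingHom.ker π = Ideal.span (Set.range f) ∧
      IsUnit (π g) ∧ IsKos (⊥ : Ideal S) f

variable {κ : Type u} [Field κ]

theorem hasSys_field (g : κ) (hg : g ≠ 0) : HasSys κ κ g := by
  refine ⟨Empty, inferInstance, Empty.elim, κ, inferInstance, inferInstance, AlgHom.id κ κ, inferInstance,
    inferInstance, fun x => ⟨x, rfl⟩, ?_, ?_, ?_⟩
  · rw [Set.range_eq_empty, Ideal.span_empty]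
    exact (RingHom.injective_iff_ker_eq_bot (AlgHom.id κ κ : κ →ₐ[κ] κ)).1 Function.injective_id
  · exact isUnit_iff_ne_zero.2 hg
  · intro x _
    exact ⟨fun i => i.elim, fun i => i.elim⟩

theorem HasSys.congr {S S' : Type u} [CommRing S] [Algebra κ S] [CommRing S'] [Algebra κ S'] (e : S ≃ₐ[κ] S') {g : S}
    (h : HasSys κ S g) : HasSys κ S' (e g) := by
  obtain ⟨ι, _, f, T, _, _, π, h1, h2, h3, h4, h5, h6⟩ := h
  refine ⟨ι, inferInstance, fun i => e (f i), T, inferInstance, inferInstance, π.comp e.symm.toAlgHom, h1, h2,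
    h3.comp e.symm.surjective, ?_, ?_, ?_⟩
  · have : Ideal.span (Set.range fun i => e (f i)) = (Ideal.span (Set.range f)).map (e : S →+* S') := by
      rw [Ideal.map_span, ← Set.range_comp]
      rfl
    rw [this, ← h4]
    ext x
    constructor
    · intro hx
      have h7 : π (e.symm x) = 0 := hx
      have := Ideal.mem_map_of_mem (e : S →+* S') (RingHom.mem_ker.2 h7)
      simpa using this
    · intro hx
      obtain ⟨y, hy, rfl⟩ := (Ideal.mem_map_iff_of_surjective (e : S →+* S') e.surjective).1 hx
      change π (e.symm (e y)) = 0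
      rw [AlgEquiv.symm_apply_apply]
      exact hy
  · change IsUnit (π (e.symm (e g)))
    rw [AlgEquiv.symm_apply_apply]
    exact h5
  · intro x hx
    obtain ⟨b, hb⟩ := h6 (fun i => e.symm (x i)) (by
      rw [Ideal.mem_bot] at hx ⊢
      apply e.injective
      rw [map_sum, map_zero, ← hx]
      exact Finset.sum_congr rfl fun i _ => by rw [map_mul, AlgEquiv.apply_symm_apply])
    refine ⟨fun i k => e (b i k), fun i => ?_⟩
    have := hb i
    rw [Ideal.mem_bot] at this ⊢
    have h7 := congrArg e this
    rw [map_sub, AlgEquiv.apply_symm_apply, map_sum, map_zero] at h7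
    rw [← h7]
    congr 1
    exact Finset.sum_congr rfl fun k _ => by rw [map_mul, map_sub]

open Polynomial in
theorem hasSys_polynomial {S : Type u} [CommRing S] [Algebra κ S] (hS : ∀ g : S, g ≠ 0 → HasSys κ S g)
    (g : S[X]) (hg : g ≠ 0) : HasSys κ S[X] g := by
  obtain ⟨ι, _, f, T, _, _, π, h1, h2, h3, h4, h5, h6⟩ := hS g.leadingCoeff (leadingCoeff_ne_zero.2 hg)
  let h : S[X] := X * g + 1
  let μ : S[X] →ₐ[κ] T[X] := Polynomial.mapAlgHom π
  have hμ : Function.Surjective μ := Polynomial.map_surjective π.toRingHom h3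
  obtain ⟨u, hu⟩ := h5
  -- the degree
  have hdeg : (μ g).natDegree = g.natDegree := by
    apply Polynomial.natDegree_map_of_leadingCoeff_ne_zero
    intro h0
    apply u.ne_zero
    rw [hu]
    exact h0
  have hlead : (μ g).leadingCoeff = u := by
    rw [Polynomial.leadingCoeff, hdeg, hu]
    exact Polynomial.coeff_map _ _
  let p : T[X] := C (↑u⁻¹ : T) * (μ h)
  have hμh : μ h = X * μ g + 1 := by
    simp only [h, map_add, map_mul, map_one]
    congr 2
    exact Polynomial.map_X _
  have hm : (X * μ g).natDegree = g.natDegree + 1 := by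
    rw [Polynomial.natDegree_X_mul, hdeg]
    intro h0
    rw [h0, leadingCoeff_zero] at hlead
    exact u.ne_zero hlead.symm
  have hmh : (μ h).natDegree = g.natDegree + 1 := by
    rw [hμh, ← hm]
    rw [← Polynomial.C_1]
    exact Polynomial.natDegree_add_C
  have hp : p.Monic := by
    have h7 : (μ h).leadingCoeff = u := by
      rw [Polynomial.leadingCoeff, hmh, hμh, coeff_add, coeff_X_mul, coeff_one, if_neg (Nat.succ_ne_zero _),
        add_zero, ← hdeg]
      exact hlead
    rw [Monic, leadingCoeff_mul', leadingCoeff_C, h7, Units.inv_mul]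
    rw [leadingCoeff_C, h7, Units.inv_mul]
    exact one_ne_zero
  have hpd : p.natDegree = g.natDegree + 1 := by
    rw [← hmh]
    exact natDegree_C_mul_of_isUnit (u⁻¹).isUnit _
  have hspan : Ideal.span {p} = Ideal.span {μ h} :=
    Ideal.span_singleton_mul_left_unit ((u⁻¹).isUnit.map C) _
  let π' : S[X] →ₐ[κ] AdjoinRoot p := ((AdjoinRoot.mkₐ p).restrictScalars κ).comp μ
  have hker : RingHom.ker π' = Ideal.span (Set.range fun i : Option ι => i.elim h fun i => (C (f i) : S[X])) := by
    have h8 : RingHom.ker μ = Ideal.span (Set.range fun i => (C (f i) : S[X])) := by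
      have := Polynomial.ker_mapRingHom π.toRingHom
      rw [show RingHom.ker (π.toRingHom) = _ from h4, Ideal.map_span, ← Set.range_comp] at this
      exact this
    apply le_antisymm
    · intro y hy
      have h9 : AdjoinRoot.mk p (μ y) = 0 := hy
      rw [AdjoinRoot.mk_eq_zero, ← Ideal.mem_span_singleton, hspan, Ideal.mem_span_singleton] at h9
      obtain ⟨z, hz⟩ := h9
      obtain ⟨z, rfl⟩ := hμ z
      have h10 : y - h * z ∈ RingHom.ker μ := by
        rw [RingHom.mem_ker, map_sub, map_mul, hz, sub_self]
      rw [h8] at h10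
      have h11 : Ideal.span (Set.range fun i => (C (f i) : S[X])) ≤
          Ideal.span (Set.range fun i : Option ι => i.elim h fun i => (C (f i) : S[X])) := by
        rw [Ideal.span_le]
        rintro _ ⟨i, rfl⟩
        exact Ideal.subset_span ⟨some i, rfl⟩
      have h12 := Ideal.add_mem _ (h11 h10) (Ideal.mul_mem_right z _
        (Ideal.subset_span (⟨none, rfl⟩ : h ∈ Set.range fun i : Option ι => i.elim h fun i => (C (f i) : S[X]))))
      rwa [sub_add_cancel] at h12
    · rw [Ideal.span_le]
      rintro _ ⟨i, rfl⟩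
      cases i with
      | none =>
        change AdjoinRoot.mk p (μ h) = 0
        rw [AdjoinRoot.mk_eq_zero, ← Ideal.mem_span_singleton, hspan]
        exact Ideal.mem_span_singleton_self _
      | some i =>
        change AdjoinRoot.mk p (μ (C (f i))) = 0
        have : (C (f i) : S[X]) ∈ RingHom.ker μ := by
          rw [h8]
          exact Ideal.subset_span ⟨i, rfl⟩
        rw [RingHom.mem_ker] at this
        rw [this, map_zero]
  refine ⟨Option ι, inferInstance, fun i => i.elim h fun i => C (f i), AdjoinRoot p, inferInstance, inferInstance, π',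
    ?_, ?_, (AdjoinRoot.mk_surjective).comp hμ, hker, ?_, ?_⟩
  · have := hp.finite_adjoinRoot
    exact Module.Finite.trans T (AdjoinRoot p)
  · rw [← not_subsingleton_iff_nontrivial]
    intro hsub
    have h9 : AdjoinRoot.mk p 1 = 0 := Subsingleton.elim _ _
    rw [AdjoinRoot.mk_eq_zero] at h9
    have h10 := hp.eq_one_of_isUnit (isUnit_of_dvd_one h9)
    rw [h10, natDegree_one] at hpd
    exact Nat.succ_ne_zero _ hpd.symm
  · have h9 : π' (X * g + 1) = 0 := by
      change h ∈ RingHom.ker π'
      rw [hker]
      exact Ideal.subset_span ⟨none, rfl⟩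
    rw [map_add, map_one, map_mul] at h9
    exact IsUnit.of_mul_eq_one (- π' X) (by rw [mul_neg, mul_comm, ← add_eq_zero_iff_neg_eq]; exact h9)
  · apply isKos_option
    · have := h6.baseChange (B := S[X])
      rw [Ideal.map_bot] at this
      exact this
    · intro y hy
      have h8 : RingHom.ker μ = Ideal.span (Set.range fun i => (C (f i) : S[X])) := by
        have := Polynomial.ker_mapRingHom π.toRingHom
        rw [show RingHom.ker (π.toRingHom) = _ from h4, Ideal.map_span, ← Set.range_comp] at this
        exact this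
      rw [← h8] at hy ⊢
      rw [RingHom.mem_ker, map_mul] at hy
      rw [RingHom.mem_ker]
      have h9 : p * μ y = 0 := by
        change C (↑u⁻¹ : T) * (μ h) * μ y = 0
        rw [mul_assoc, hy, mul_zero]
      exact hp.mul_right_eq_zero_iff.1 h9

theorem hasSys_mvPolynomial (n : ℕ) : ∀ g : MvPolynomial (Fin n) κ, g ≠ 0 → HasSys κ (MvPolynomial (Fin n) κ) g := by
  induction n with
  | zero =>
    intro g hg
    let e := MvPolynomial.isEmptyAlgEquiv κ (Fin 0)
    have h1 : e g ≠ 0 := fun h => hg (e.injective (h.trans (map_zero e).symm))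
    have := (hasSys_field (e g) h1).congr e.symm
    rwa [AlgEquiv.symm_apply_apply] at this
  | succ n ih =>
    intro g hg
    let e := MvPolynomial.finSuccEquiv κ n
    have h1 : e g ≠ 0 := fun h => hg (e.injective (h.trans (map_zero e).symm))
    have := (hasSys_polynomial ih (e g) h1).congr e.symm
    rwa [AlgEquiv.symm_apply_apply] at this

theorem finite_quotient_map (κ : Type*) {S A : Type*} [CommRing κ] [CommRing S] [CommRing A] [Algebra κ S] [Algebra κ A]
    [Algebra S A] [IsScalarTower κ S A] [Module.Finite S A] (I : Ideal S) [Module.Finite κ (S ⧸ I)] :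
    Module.Finite κ (A ⧸ I.map (algebraMap S A)) := by
  have hfS : Module.Finite S (A ⧸ I.map (algebraMap S A)) := Module.Finite.trans A _
  have hf1 : Module.Finite (S ⧸ I) (A ⧸ I.map (algebraMap S A)) := Module.Finite.of_restrictScalars_finite S (S ⧸ I) _
  have t2 : IsScalarTower κ (S ⧸ I) (A ⧸ I.map (algebraMap S A)) := IsScalarTower.of_algebraMap_eq fun x => by
    rw [IsScalarTower.algebraMap_apply κ S (S ⧸ I), IsScalarTower.algebraMap_apply κ A (A ⧸ _),
      IsScalarTower.algebraMap_apply κ S A]
    rfl
  exact Module.Finite.trans (S ⧸ I) _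

/-- A nonzero algebra of finite type over a field has a finite nonzero quotient by elements with only trivial
relations. -/
theorem exists_system (κ A : Type u) [Field κ] [CommRing A] [Nontrivial A] [Algebra κ A] [Algebra.FiniteType κ A] :
    ∃ (ι : Type) (_ : Fintype ι) (f : ι → A), Module.Finite κ (A ⧸ Ideal.span (Set.range f)) ∧
      Nontrivial (A ⧸ Ideal.span (Set.range f)) ∧ IsKos (⊥ : Ideal A) f := by
  obtain ⟨n, ν, hν, hfin⟩ := exists_finite_inj_algHom_of_fg κ A
  let S := MvPolynomial (Fin n) κ
  let : Algebra S A := ν.toRingHom.toAlgebra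
  have hfinS : Module.Finite S A := hfin
  have htower : IsScalarTower κ S A := IsScalarTower.of_algebraMap_eq fun x => (ν.commutes x).symm
  have : Module.FinitePresentation S A := Module.finitePresentation_of_finite S A
  -- generic freeness
  obtain ⟨g, hg, hfree, -⟩ := Module.FinitePresentation.exists_free_localizedModule_powers (nonZeroDivisors S)
    (LocalizedModule.mkLinearMap (nonZeroDivisors S) A) (FractionRing S)
  have hg0 : g ≠ 0 := nonZeroDivisors.ne_zero hg
  obtain ⟨ι, _, f, T, _, _, π, h1, h2, h3, h4, h5, h6⟩ := hasSys_mvPolynomial n g hg0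
  let I : Ideal S := Ideal.span (Set.range f)
  have hT : Module.Finite κ (S ⧸ I) := by
    have e : (S ⧸ I) ≃ₐ[κ] T := (Ideal.quotientEquivAlgOfEq κ h4.symm).trans (Ideal.quotientKerAlgEquivOfSurjective h3)
    exact Module.Finite.equiv e.symm.toLinearEquiv
  let J : Ideal A := Ideal.span (Set.range fun i => algebraMap S A (f i))
  have hIJ : I.map (algebraMap S A) = J := by
    rw [Ideal.map_span, ← Set.range_comp]
    rfl
  have hf2 : Module.Finite κ (A ⧸ J) := by
    rw [← hIJ]
    exact finite_quotient_map κ I
  refine ⟨ι, inferInstance, fun i => algebraMap S A (f i), hf2, ?_, ?_⟩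
  · -- lying over
    have hI : I ≠ ⊤ := by
      intro h
      have : (1 : S) ∈ RingHom.ker π := by
        rw [h4]
        exact (Ideal.eq_top_iff_one I).1 h
      rw [RingHom.mem_ker, map_one] at this
      exact one_ne_zero this
    obtain ⟨m, hm, hIm⟩ := Ideal.exists_le_maximal I hI
    have hint : Algebra.IsIntegral S A := inferInstance
    have hinj : RingHom.ker (algebraMap S A) ≤ m := by
      have : RingHom.ker (algebraMap S A) = ⊥ := (RingHom.injective_iff_ker_eq_bot _).1 hν
      rw [this]
      exact bot_le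
    obtain ⟨P, hP, hPm⟩ := Ideal.exists_ideal_over_maximal_of_isIntegral m hinj
    apply Ideal.Quotient.nontrivial_iff.2
    intro h
    apply hP.ne_top
    rw [← top_le_iff, ← h]
    change J ≤ P
    rw [← hIJ, Ideal.map_le_iff_le_comap, hPm]
    exact hIm
  · have hgt : Ideal.span (Set.range f) ⊔ Ideal.span {g} = ⊤ := by
      obtain ⟨t, ht⟩ := h5.exists_right_inv
      obtain ⟨s, rfl⟩ := h3 t
      rw [Ideal.eq_top_iff_one]
      have h7 : 1 - g * s ∈ Ideal.span (Set.range f) := by
        rw [← h4, RingHom.mem_ker, map_sub, map_mul, ht, map_one, sub_self]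
      have h8 := Ideal.add_mem _ (Ideal.mem_sup_left h7)
        (Ideal.mem_sup_right (Ideal.mul_mem_right s _ (Ideal.mem_span_singleton_self g)))
      rwa [sub_add_cancel] at h8
    have hflat : Module.Flat S (LocalizedModule (Submonoid.powers g) A) :=
      have : Module.Flat S (Localization (Submonoid.powers g)) := IsLocalization.flat _ (Submonoid.powers g)
      Module.Flat.trans S (Localization (Submonoid.powers g)) _
    have h9 : IsKosM f A := isKosM_of_localized g hgt A
      (isKosM_of_flat ((isKos_bot_iff f).1 h6) (LocalizedModule (Submonoid.powers g) A))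
    intro x hx
    rw [Ideal.mem_bot] at hx
    obtain ⟨b, hb⟩ := h9 x (by
      rw [← hx]
      exact Finset.sum_congr rfl fun i _ => by rw [Algebra.smul_def, mul_comm])
    refine ⟨b, fun i => ?_⟩
    rw [Ideal.mem_bot, hb i, sub_eq_zero]
    exact Finset.sum_congr rfl fun k _ => by rw [Algebra.smul_def, mul_comm]

end System

end K744.Kos
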