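import Groth.Agent.AlgSt.K744.Art.Final

/-!
# The theorem on flat charts, modulo the smooth locus and the smooth points
-/

set_option autoImplicit false
set_option linter.unusedVariables false
set_option backward.isDefEq.respectTransparency false
set_option backward.isDefEq.respectTransparency.types false

universe w v u

open CategoryTheory CategoryTheory.Limits AlgebraicGeometry Opposite AlgSp

namespace K744.ArtV

open K734.Fib K734.Rep

variable {S : Scheme.{u}}

theorem flat_of_chart {𝒳 : BasedCategory.{v, w} (Over S)} {U : Over S} {x : FibCat.overCat U ⥤ᵇ 𝒳}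
    (hx : AlgSt.RepByAlgSpWith (LocP (@Flat ⊓ @LocallyOfFinitePresentation)) x) :
    AlgSt.RepByAlgSpWith (LocP @Flat) x ∧ AlgSt.RepByAlgSpWith (LocP @LocallyOfFinitePresentation) x :=
  ⟨K740.SpIso.repByAlgSpWith_imp hx fun _ _ _ h => (K597.locP_inf_iff.1 h).1,
    K740.SpIso.repByAlgSpWith_imp hx fun _ _ _ h => (K597.locP_inf_iff.1 h).2⟩

/-- **A stack with a flat chart, locally of finite presentation and surjective, is an algebraic stack**
(morphisms in `Type (u+1)`). -/
theorem isAlgStack_of {𝒳 : BasedCategory.{u + 1, w} (Over S)} (hs : Stk.IsStack (QuotSh.J Scheme.fppfPrecoverage S) 𝒳)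
    {U : Over S} (x : FibCat.overCat U ⥤ᵇ 𝒳)
    (hx : AlgSt.RepByAlgSpWith (LocP (@Flat ⊓ @LocallyOfFinitePresentation)) x)
    (hx3 : AlgSt.RepByAlgSpWith IsSurjectiveMor x) (hL : SmLocus x) {Z B : ℕ → Over S} {c : ∀ n, Z n ⟶ B n}
    (hc : SmPt U c) : AlgSt.IsAlgStack Scheme.fppfPrecoverage 𝒳 := by
  obtain ⟨I, U', x', h1, h2⟩ := exists_smooth_family hs (flat_of_chart hx).1 (flat_of_chart hx).2 hx3 hL hc
  exact K742.AtlasU.isAlgStack_of_family hs U' x' h1 h2

/-- **A stack with a flat chart, locally of finite presentation and surjective, is an algebraic stack**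
(morphisms in `Type u`). -/
theorem isAlgStack_of₀ {𝒳 : BasedCategory.{u, w} (Over S)} (hs : Stk.IsStack (QuotSh.J Scheme.fppfPrecoverage S) 𝒳)
    {U : Over S} (x : FibCat.overCat U ⥤ᵇ 𝒳)
    (hx : AlgSt.RepByAlgSpWith (LocP (@Flat ⊓ @LocallyOfFinitePresentation)) x)
    (hx3 : AlgSt.RepByAlgSpWith IsSurjectiveMor x) (hL : SmLocus x) {Z B : ℕ → Over S} {c : ∀ n, Z n ⟶ B n}
    (hc : SmPt U c) : AlgSt.IsAlgStack Scheme.fppfPrecoverage 𝒳 := by
  obtain ⟨I, U', x', h1, h2⟩ := exists_smooth_family hs (flat_of_chart hx).1 (flat_of_chart hx).2 hx3 hL hc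
  exact K742.Atlas0.isAlgStack_of_family hs U' x' h1 h2

end K744.ArtV
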