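import Groth.Agent.AlgSt.K744.Art.VCat
import Groth.Agent.AlgSt.K738.SecRep2

/-!
# Points of a chart over an object, as sections of the representing sheaf

For `y : (Sch/T₀) ⟶ 𝒳` and an elementwise representation `R` of `(Sch/T₀) ×_𝒳 (Sch/U)` by a sheaf `F`, the points
`WPt x (y 𝟙) T` are the sections of `F` over `T`.
-/

set_option autoImplicit false
set_option backward.isDefEq.respectTransparency false
set_option backward.isDefEq.respectTransparency.types false

universe w v u

open CategoryTheory CategoryTheory.Limits AlgebraicGeometry Opposite AlgSp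

namespace K744.ArtV

open K735.Fib K735.Fp

variable {S : Scheme.{u}} {𝒳 : BasedCategory.{v, w} (Over S)} {U : Over S} {x : FibCat.overCat U ⥤ᵇ 𝒳} {T₀ : Over S}

/-- The value of `y` at the identity. -/
abbrev atId (y : FibCat.overCat T₀ ⥤ᵇ 𝒳) : 𝒳.obj := y.obj (Over.mk (𝟙 T₀))

theorem atId_w (y : FibCat.overCat T₀ ⥤ᵇ 𝒳) : 𝒳.p.obj (atId y) = T₀ := y.w_obj _

variable {y : FibCat.overCat T₀ ⥤ᵇ 𝒳} (h𝒳 : FibCat.IsFibGrpd 𝒳.p)

/-- The base of a point, as a morphism to `T₀`. -/
def base₀ {T : Over S} (w : WPt x (atId y) T) : T ⟶ T₀ := w.base ≫ eqToHom (atId_w y)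

theorem base₀_res {T T' : Over S} (g : T' ⟶ T) (w : WPt x (atId y) T) : base₀ (w.res g) = g ≫ base₀ w := by
  unfold base₀
  rw [WPt.base_res, Category.assoc]

include h𝒳 in
theorem exists_toF {T : Over S} (w : WPt x (atId y) T) :
    ∃ e : y.obj (Over.mk (base₀ w)) ≅ x.obj (Over.mk w.u), Vert 𝒳.p e.hom ∧
      e.hom ≫ w.arr = y.map (toId (Over.mk (base₀ w))) := by
  obtain ⟨χ, h1, h2⟩ := exists_hom h𝒳 w.arr (y.map (toId (Over.mk (base₀ w))))
    (eqToHom ((y.w_obj (Over.mk (base₀ w))).trans (x_w x w.u).symm)) (by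
      have h3 : (FibCat.overCat T₀).p.map (toId (Over.mk (base₀ w))) = w.base ≫ eqToHom (atId_w y) := rfl
      rw [WPt.p_arr, map_map, h3]
      simp)
  have hv : Vert 𝒳.p χ := vert_of_map_eq _ h1
  have : IsIso χ := hv.isIso h𝒳
  exact ⟨asIso χ, hv, h2⟩

/-- The object of the fibre product attached to a point. -/
noncomputable def toFp {T : Over S} (w : WPt x (atId y) T) : (FibCat.fp y x).obj :=
  mkFp y x (Over.mk (base₀ w)) (Over.mk w.u) (exists_toF h𝒳 w).choose (exists_toF h𝒳 w).choose_spec.1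

theorem toFp_iso {T : Over S} (w : WPt x (atId y) T) :
    (toFp h𝒳 w).obj.iso.hom ≫ w.arr = y.map (toId (Over.mk (base₀ w))) := (exists_toF h𝒳 w).choose_spec.2

theorem toFp_p {T : Over S} (w : WPt x (atId y) T) : (FibCat.fp y x).p.obj (toFp h𝒳 w) = T := rfl

/-- Restriction of points as a morphism of the fibre product. -/
noncomputable def toFpHom {T T' : Over S} (g : T' ⟶ T) (w : WPt x (atId y) T) :
    toFp h𝒳 (w.res g) ⟶ toFp h𝒳 w :=
  homFp (Over.homMk g (base₀_res g w).symm : (Over.mk (base₀ (w.res g)) : Over T₀) ⟶ Over.mk (base₀ w))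
    (Over.homMk g rfl : (Over.mk (g ≫ w.u) : Over U) ⟶ Over.mk w.u) (by
      refine hom_ext' h𝒳 w.arr ?_ ?_
      · rw [Functor.map_comp, Functor.map_comp, map_map, map_map, (fp_vert (toFp h𝒳 w)).map_eq,
          (fp_vert (toFp h𝒳 (w.res g))).map_eq]
        simp
        rfl
      · have h1 := toFp_iso h𝒳 w
        have h2 := toFp_iso h𝒳 (w.res g)
        rw [Category.assoc, h1, ← y.toFunctor.map_comp]
        refine Eq.trans ?_ ((Category.assoc _ _ _).trans h2).symm
        congr 1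
        exact Over.OverMorphism.ext (base₀_res g w).symm)


section Rep

open K738

variable {F : Sp S} {π : F ⟶ (yon S).obj T₀} (R : SecRep (FibCat.fpFst y x) F π)

/-- The section attached to a point. -/
noncomputable def psi {T : Over S} (w : WPt x (atId y) T) : F.obj.obj (op T) := R.sec (toFp h𝒳 w)

theorem psi_res {T T' : Over S} (g : T' ⟶ T) (w : WPt x (atId y) T) :
    psi h𝒳 R (w.res g) = F.obj.map g.op (psi h𝒳 R w) :=
  (R.map (toFpHom h𝒳 g w)).symm

theorem psi_base {T : Over S} (w : WPt x (atId y) T) :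
    π.hom.app (op T) (psi h𝒳 R w) = (⟨base₀ w⟩ : ULift.{u + 1} _) := by
  refine (R.proj (toFp h𝒳 w)).trans ?_
  apply ULift.ext
  exact Category.id_comp _

theorem base₀_inj {T : Over S} {w w' : WPt x (atId y) T} (h : base₀ w = base₀ w') : w.base = w'.base := by
  unfold base₀ at h
  exact (cancel_mono (eqToHom (atId_w y))).1 h

theorem psi_inj {T : Over S} {w w' : WPt x (atId y) T} (h : psi h𝒳 R w = psi h𝒳 R w') : w = w' := by
  have h0 : F.obj.map (𝟙 T : T ⟶ T).op (psi h𝒳 R w') = psi h𝒳 R w := by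
    rw [h]
    simp
  obtain ⟨m, hm⟩ := R.full (z := toFp h𝒳 w) (z' := toFp h𝒳 w') (𝟙 T) h0
  have h1 : m.hom.fst.left = 𝟙 T := hm
  have h2 : m.hom.snd.left = 𝟙 T := by
    have h3 : (FibCat.overCat U).p.map m.hom.snd = _ := fp_map_snd m
    have hm' : (FibCat.overCat T₀).p.map m.hom.fst = eqToHom rfl := hm
    rw [hm', eqToHom_trans, eqToHom_trans] at h3
    exact h3
  have hu : w.u = w'.u := by
    have h4 : m.hom.snd.left ≫ w'.u = w.u := Over.w m.hom.snd
    rw [h2] at h4
    exact h4.symm.trans (Category.id_comp _)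
  have hm2 : m.hom.snd = eqm hu := Over.OverMorphism.ext h2
  refine WPt.ext' hu ?_
  have hw := fp_w m
  have hiso : IsIso (toFp h𝒳 w).obj.iso.hom := inferInstance
  rw [← cancel_epi (toFp h𝒳 w).obj.iso.hom]
  have h5 := toFp_iso h𝒳 w
  have h6 := toFp_iso h𝒳 w'
  refine Eq.trans ?_ h5.symm
  rw [← hm2]
  refine (Category.assoc _ _ _).symm.trans ?_
  rw [← hw, Category.assoc, h6, ← y.toFunctor.map_comp]
  congr 1
  apply Over.OverMorphism.ext
  exact Over.w m.hom.fst

include h𝒳 in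
theorem psi_surj {T : Over S} (s : F.obj.obj (op T)) : ∃ w : WPt x (atId y) T, psi h𝒳 R w = s := by
  obtain ⟨z, hT, hs⟩ := R.surj s
  subst hT
  have hs' : R.sec z = s := by rw [← hs]; simp
  subst hs'
  have e : z.obj.snd.left = (FibCat.fp y x).p.obj z := fp_snd_eq z
  let u : (FibCat.fp y x).p.obj z ⟶ U := eqToHom e.symm ≫ z.obj.snd.hom
  let i : (Over.mk u : Over U) ⟶ z.obj.snd := Over.homMk (eqToHom e.symm) rfl
  let w : WPt x (atId y) ((FibCat.fp y x).p.obj z) := ⟨u, x.map i ≫ z.obj.iso.inv ≫ y.map (toId z.obj.fst)⟩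
  refine ⟨w, ?_⟩
  have hb : base₀ w = z.obj.fst.hom := by
    have hv : Vert 𝒳.p z.obj.iso.inv := Vert.iso_inv (fp_vert z)
    have hi : (FibCat.overCat U).p.map i = eqToHom e.symm := rfl
    have hf : (FibCat.overCat T₀).p.map (toId z.obj.fst) = z.obj.fst.hom := rfl
    unfold base₀ WPt.base
    simp only [w, Functor.map_comp, map_map, hv.map_eq, hi, hf]
    simp
  let j : (Over.mk (base₀ w) : Over T₀) ⟶ z.obj.fst := Over.homMk (𝟙 _) (by
    change 𝟙 _ ≫ z.obj.fst.hom = base₀ w
    rw [hb]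
    exact Category.id_comp _)
  let m : toFp h𝒳 w ⟶ z := homFp j i (by
    have hv1 : Vert 𝒳.p (toFp h𝒳 w).obj.iso.hom := fp_vert _
    have hv2 : Vert 𝒳.p z.obj.iso.hom := fp_vert _
    have h1 := toFp_iso h𝒳 w
    refine hom_ext' h𝒳 (z.obj.iso.inv ≫ y.map (toId z.obj.fst)) ?_ ?_
    · have hi : (FibCat.overCat U).p.map i = eqToHom e.symm := rfl
      have hj : (FibCat.overCat T₀).p.map j = eqToHom rfl := rfl
      rw [Functor.map_comp, Functor.map_comp, map_map, map_map, hv1.map_eq, hv2.map_eq, hi, hj]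
      simp only [eqToHom_trans]
    · rw [Category.assoc, Iso.hom_inv_id_assoc, ← y.toFunctor.map_comp]
      refine Eq.trans ?_ ((Category.assoc _ _ _).trans h1).symm
      congr 1
      apply Over.OverMorphism.ext
      change 𝟙 _ ≫ z.obj.fst.hom = base₀ w
      rw [hb]
      exact Category.id_comp _)
  have h1 := R.map m
  refine h1.symm.trans ?_
  exact congrArg (fun g : F.obj.obj _ ⟶ F.obj.obj _ => g (R.sec z)) (F.obj.map_id _)

end Rep

end K744.ArtV
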