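import Groth.Agent.AlgSt.K744.Art.VProps
import Groth.Agent.AlgSt.K738.RepDiag
import Groth.Agent.AlgSp.K613.Chart

/-!
# `V x c ⟶ 𝒳` is representable by algebraic spaces and `V x c` is an algebraic space

The representability of Weil restrictions is taken as a hypothesis `WR`.
-/

set_option autoImplicit false
set_option linter.unusedVariables false
set_option backward.isDefEq.respectTransparency false
set_option backward.isDefEq.respectTransparency.types false

universe w v u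

open CategoryTheory CategoryTheory.Limits AlgebraicGeometry Opposite AlgSp

namespace K744.ArtV

open K735.Fib K735.Fp

variable {S : Scheme.{u}}

section Prod

variable {T₀ Z B TB TZ : Over S} {c : Z ⟶ B} {tT : TB ⟶ T₀} {tB : TB ⟶ B} (hTB : IsLimit (BinaryFan.mk tT tB))
  {zT : TZ ⟶ T₀} {zZ : TZ ⟶ Z} (hTZ : IsLimit (BinaryFan.mk zT zZ))
  {c' : TZ ⟶ TB} (hc1 : c' ≫ tT = zT) (hc2 : c' ≫ tB = zZ ≫ c)

include hTB hTZ hc1 hc2 in
theorem isPullback_c' : IsPullback c' zZ tB c := by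
  refine ⟨⟨hc2⟩, ⟨PullbackCone.IsLimit.mk _ (fun s => binLift hTZ (s.fst ≫ tT) s.snd) ?_ ?_ ?_⟩⟩
  · intro s
    refine bin_ext hTB ?_ ?_
    · rw [Category.assoc, hc1, binLift_fst]
    · rw [Category.assoc, hc2, ← Category.assoc, binLift_snd, s.condition]
  · intro s
    exact binLift_snd hTZ _ _
  · intro s m h1 h2
    refine bin_ext hTZ ?_ ?_
    · rw [binLift_fst, ← h1, Category.assoc, hc1]
    · rw [binLift_snd, h2]

include hTB in
theorem isPullback_prod : IsPullback tT tB (Over.mkIdTerminal.from T₀) (Over.mkIdTerminal.from B) := by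
  refine ⟨⟨Over.mkIdTerminal.hom_ext _ _⟩, ⟨PullbackCone.IsLimit.mk _ (fun s => binLift hTB s.fst s.snd) ?_ ?_ ?_⟩⟩
  · intro s
    exact binLift_fst hTB _ _
  · intro s
    exact binLift_snd hTB _ _
  · intro s m h1 h2
    refine bin_ext hTB ?_ ?_
    · rw [binLift_fst, h1]
    · rw [binLift_snd, h2]

include hTB in
theorem left_tT {P : MorphismProperty Scheme.{u}} [P.IsStableUnderBaseChange] (hB : P B.hom) : P tT.left := by
  have sq := (isPullback_prod hTB).map (Over.forget S)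
  have h : P (Over.mkIdTerminal.from B).left := by
    have : (Over.mkIdTerminal.from B).left = B.hom := by
      have := Over.w (Over.mkIdTerminal.from B)
      simpa using this
    rw [this]
    exact hB
  exact MorphismProperty.of_isPullback sq.flip h

include hTB hTZ hc1 hc2 in
theorem left_c' {P : MorphismProperty Scheme.{u}} [P.IsStableUnderBaseChange] (hc : P c.left) : P c'.left :=
  MorphismProperty.of_isPullback ((isPullback_c' hTB hTZ hc1 hc2).map (Over.forget S)).flip hc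

end Prod

variable (S) in
/-- Weil restriction of algebraic spaces along finite locally free morphisms. -/
structure WR : Prop where
  alg : ∀ {Z T : Over S} (c : Z ⟶ T) (_ : IsFinite c.left) (_ : Flat c.left)
    (_ : LocallyOfFinitePresentation c.left) {W : Sp S} (w : W ⟶ (yon S).obj Z), IsAlgSpace W →
      IsAlgSpace (K893.Wr.Res c w)
  lfp : ∀ {Z T : Over S} (c : Z ⟶ T) (_ : IsFinite c.left) (_ : Flat c.left)
    (_ : LocallyOfFinitePresentation c.left) {W : Sp S} (w : W ⟶ (yon S).obj Z), IsAlgSpace W →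
      LocP @LocallyOfFinitePresentation w → LocP @LocallyOfFinitePresentation (K893.Wr.π c w)

variable {𝒳 : BasedCategory.{v, w} (Over S)} {U : Over S} {x : FibCat.overCat U ⥤ᵇ 𝒳} {Z B : Over S} {c : Z ⟶ B}

theorem exists_secRep_toX (hM : WR S) (h𝒳 : FibCat.IsFibGrpd 𝒳.p)
    (hx : AlgSt.RepByAlgSpWith (LocP @LocallyOfFinitePresentation) x)
    (h1 : IsFinite c.left) (h2 : Flat c.left) (h3 : LocallyOfFinitePresentation c.left)
    (hB : LocallyOfFinitePresentation B.hom) (T₀ : Over S) (y : FibCat.overCat T₀ ⥤ᵇ 𝒳) :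
    ∃ (F : Space S) (π : F.obj ⟶ (yon S).obj T₀), LocP @LocallyOfFinitePresentation π ∧
      Nonempty (K738.SecRep (FibCat.fpFst y (toX x c)) F.obj π) := by
  obtain ⟨F, e, he, hF⟩ := hx T₀ y
  obtain ⟨R⟩ := K738.SecRep.nonempty_of_equiv (FibCat.fpFst y x) e he
  set π := AlgSt.spMapOfOver (BasedFunctor.comp e (FibCat.fpFst y x)) with hπ
  let hTB := prodIsProd T₀ B
  let hTZ := prodIsProd T₀ Z
  let c' : T₀ ⨯ Z ⟶ T₀ ⨯ B := prod.map (𝟙 T₀) c
  have hc1 : c' ≫ prod.fst = prod.fst := by simp [c']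
  have hc2 : c' ≫ prod.snd = prod.snd ≫ c := by simp [c']
  have sq := IsPullback.of_hasPullback π ((yon S).map (prod.fst : T₀ ⨯ Z ⟶ T₀))
  let w' : pullback π ((yon S).map (prod.fst : T₀ ⨯ Z ⟶ T₀)) ⟶ (yon S).obj (T₀ ⨯ Z) := pullback.snd _ _
  have hT := AlgSp.IsAlgSpace.yon_obj T₀
  have hZ := AlgSp.IsAlgSpace.yon_obj (T₀ ⨯ Z)
  have hTBs := AlgSp.IsAlgSpace.yon_obj (T₀ ⨯ B)
  have hW : IsAlgSpace (pullback π ((yon S).map (prod.fst : T₀ ⨯ Z ⟶ T₀))) :=
    K613.Chart.isAlgSpace_pullback F.property hZ hT _ _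
  have hw' : LocP @LocallyOfFinitePresentation w' :=
    K734.Rep.nice_lfp.bc F.property hT hW hZ _ _ _ _ sq hF
  have k1 : IsFinite c'.left := left_c' (P := @IsFinite) hTB hTZ hc1 hc2 h1
  have k2 : Flat c'.left := left_c' (P := @Flat) hTB hTZ hc1 hc2 h2
  have k3 : LocallyOfFinitePresentation c'.left := left_c' (P := @LocallyOfFinitePresentation) hTB hTZ hc1 hc2 h3
  have hR := hM.alg c' k1 k2 k3 w' hW
  have hR' := hM.lfp c' k1 k2 k3 w' hW hw'
  have hpr : LocP @LocallyOfFinitePresentation ((yon S).map (prod.fst : T₀ ⨯ B ⟶ T₀)) :=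
    K597.locP_of_repWith K734.Rep.stable_precomp_lfp ((AlgSp.repWith_yon_map_iff @LocallyOfFinitePresentation _).2
      (left_tT (P := @LocallyOfFinitePresentation) hTB hB))
  exact ⟨⟨_, hR⟩, K893.Wr.π c' w' ≫ (yon S).map prod.fst,
    K734.Rep.nice_lfp.comp hR hTBs hT _ _ hR' hpr, ⟨secRep h𝒳 R hTB hTZ hc1 hc2 sq⟩⟩

/-- `V x c ⟶ 𝒳` is representable by algebraic spaces and locally of finite presentation. -/
theorem repByAlgSpWith_toX (hM : WR S) (h𝒳 : FibCat.IsFibGrpd 𝒳.p)
    (hx : AlgSt.RepByAlgSpWith (LocP @LocallyOfFinitePresentation) x)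
    (h1 : IsFinite c.left) (h2 : Flat c.left) (h3 : LocallyOfFinitePresentation c.left)
    (hB : LocallyOfFinitePresentation B.hom) : AlgSt.RepByAlgSpWith (LocP @LocallyOfFinitePresentation) (toX x c) :=
  K738.repByAlgSpWith_of_secRep (exists_secRep_toX hM h𝒳 hx h1 h2 h3 hB)

/-- **`V x c` is an algebraic space.** -/
theorem repByAlgSp_V (hM : WR S) (hs : Stk.IsStack (QuotSh.J Scheme.fppfPrecoverage S) 𝒳)
    (hx1 : AlgSt.RepByAlgSpWith (LocP @Flat) x)
    (hx2 : AlgSt.RepByAlgSpWith (LocP @LocallyOfFinitePresentation) x)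
    (hx3 : AlgSt.RepByAlgSpWith IsSurjectiveMor x)
    (h1 : IsFinite c.left) (h2 : Flat c.left) (h3 : LocallyOfFinitePresentation c.left) (h4 : Surjective c.left)
    (hB : LocallyOfFinitePresentation B.hom) :
    Stk.IsStack (QuotSh.J Scheme.fppfPrecoverage S) (V x c) ∧ AlgSt.RepByAlgSp (V x c) := by
  have h5 := repByAlgSpWith_toX (c := c) hM hs.1 hx2 h1 h2 h3 hB
  have h6 := K735.Rep.repByAlgSp1_of_with h5
  have h7 := isStack_of_rep1 (isFibGrpd_V hs.1) hs (toX x c) h6
  refine ⟨h7, ?_⟩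
  have h8 := isFibSetoid_V (x := x) (c := c) (K751.Test.isPrestack_of_isStack hs)
  exact repByAlgSp_of_cover h7 h8 (h6 U x) (FibCat.fpSnd x (toX x c)) (K734.Rep.repByAlgSpWith_fpSnd _ x (toX x c) hx3)
    (K734.Rep.repByAlgSpWith_fpSnd _ x (toX x c) hx1) (K734.Rep.repByAlgSpWith_fpSnd _ x (toX x c) hx2)

end K744.ArtV
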