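import Groth.Agent.AlgSt.K744.Art.Psi
import Groth.Agent.Gerb.K893.Wr2
import Groth.Agent.AlgSp.K595.Sections

/-!
# The fibre product of `V x c ⟶ 𝒳` with a scheme is a Weil restriction

For `y : (Sch/T₀) ⟶ 𝒳`, `(Sch/T₀) ×_𝒳 (V x c)` is represented by the Weil restriction along `T₀ × Z ⟶ T₀ × B` of the sheaf
`F × Z`, where `F` represents `(Sch/T₀) ×_𝒳 (Sch/U)`.
-/

set_option autoImplicit false
set_option backward.isDefEq.respectTransparency false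
set_option backward.isDefEq.respectTransparency.types false

universe w v u

open CategoryTheory CategoryTheory.Limits AlgebraicGeometry Opposite AlgSp

namespace K744.ArtV

open K735.Fib K735.Fp

variable {S : Scheme.{u}}

section Sec

variable {P X Y Z : Sp S} {fst : P ⟶ X} {snd : P ⟶ Y} {f : X ⟶ Z} {g : Y ⟶ Z} (sq : IsPullback fst snd f g)

/-- The section of a fibre product with given components. -/
noncomputable def pbSec {T : Over S} (a : X.obj.obj (op T)) (b : Y.obj.obj (op T))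
    (h : f.hom.app (op T) a = g.hom.app (op T) b) : P.obj.obj (op T) :=
  (K595.Sections.exists_section sq a b h).choose

theorem pbSec_fst {T : Over S} (a : X.obj.obj (op T)) (b : Y.obj.obj (op T))
    (h : f.hom.app (op T) a = g.hom.app (op T) b) : fst.hom.app (op T) (pbSec sq a b h) = a :=
  (K595.Sections.exists_section sq a b h).choose_spec.1

theorem pbSec_snd {T : Over S} (a : X.obj.obj (op T)) (b : Y.obj.obj (op T))
    (h : f.hom.app (op T) a = g.hom.app (op T) b) : snd.hom.app (op T) (pbSec sq a b h) = b :=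
  (K595.Sections.exists_section sq a b h).choose_spec.2

end Sec

variable {𝒳 : BasedCategory.{v, w} (Over S)} {U : Over S} {x : FibCat.overCat U ⥤ᵇ 𝒳} {T₀ : Over S}
  {Z B : Over S} {c : Z ⟶ B}
  {y : FibCat.overCat T₀ ⥤ᵇ 𝒳} (h𝒳 : FibCat.IsFibGrpd 𝒳.p)
  {F : Sp S} {π : F ⟶ (yon S).obj T₀} (R : K738.SecRep (FibCat.fpFst y x) F π)
  {TB TZ : Over S} {tT : TB ⟶ T₀} {tB : TB ⟶ B} (hTB : IsLimit (BinaryFan.mk tT tB))
  {zT : TZ ⟶ T₀} {zZ : TZ ⟶ Z} (hTZ : IsLimit (BinaryFan.mk zT zZ))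
  {c' : TZ ⟶ TB} (hc1 : c' ≫ tT = zT) (hc2 : c' ≫ tB = zZ ≫ c)
  {W : Sp S} {f' : W ⟶ F} {w' : W ⟶ (yon S).obj TZ} (sq : IsPullback f' w' π ((yon S).map zT))

/-- the morphism to a product -/
noncomputable def binLift {A B' P : Over S} {p : P ⟶ A} {q : P ⟶ B'} (hP : IsLimit (BinaryFan.mk p q)) {T : Over S}
    (g : T ⟶ A) (b : T ⟶ B') : T ⟶ P := hP.lift (BinaryFan.mk g b)

theorem binLift_fst {A B' P : Over S} {p : P ⟶ A} {q : P ⟶ B'} (hP : IsLimit (BinaryFan.mk p q)) {T : Over S}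
    (g : T ⟶ A) (b : T ⟶ B') : binLift hP g b ≫ p = g :=
  hP.fac (BinaryFan.mk g b) ⟨WalkingPair.left⟩

theorem binLift_snd {A B' P : Over S} {p : P ⟶ A} {q : P ⟶ B'} (hP : IsLimit (BinaryFan.mk p q)) {T : Over S}
    (g : T ⟶ A) (b : T ⟶ B') : binLift hP g b ≫ q = b :=
  hP.fac (BinaryFan.mk g b) ⟨WalkingPair.right⟩

theorem bin_ext {A B' P : Over S} {p : P ⟶ A} {q : P ⟶ B'} (hP : IsLimit (BinaryFan.mk p q)) {T : Over S}
    {f g : T ⟶ P} (h1 : f ≫ p = g ≫ p) (h2 : f ≫ q = g ≫ q) : f = g :=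
  BinaryFan.IsLimit.hom_ext hP h1 h2

include hc2 in
theorem cond_b {T T₂ : Over S} {t : T ⟶ TB} {b : T ⟶ B} (hb : t ≫ tB = b) {a : T₂ ⟶ T} {m : T₂ ⟶ TZ}
    (h : a ≫ t = m ≫ c') : a ≫ b = (m ≫ zZ) ≫ c := by
  rw [← hb, ← Category.assoc, h, Category.assoc, hc2, Category.assoc]

include hc1 in
theorem cond_g {T T₂ : Over S} {t : T ⟶ TB} {g : T ⟶ T₀} (hg : t ≫ tT = g) {a : T₂ ⟶ T} {m : T₂ ⟶ TZ}
    (h : a ≫ t = m ≫ c') : a ≫ g = m ≫ zT := by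
  rw [← hg, ← Category.assoc, h, Category.assoc, hc1]

theorem base₀_push_σ (ξ : VObj x c) (θ : ξ.pt ⟶ atId y) {T : Over S} (a : T ⟶ 𝒳.p.obj ξ.pt) (k : T ⟶ Z)
    (h : a ≫ ξ.b = k ≫ c) : base₀ ((ξ.σ a k h).push θ) = a ≫ 𝒳.p.map θ ≫ eqToHom (atId_w y) := by
  unfold base₀
  rw [WPt.base_push, ξ.σ_base, Category.assoc]

/-- The section attached to an object of `V x c` with a morphism to `y(𝟙)`. -/
noncomputable def fs (ξ : VObj x c) (θ : ξ.pt ⟶ atId y) {T : Over S} (a : T ⟶ 𝒳.p.obj ξ.pt) (k : T ⟶ Z)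
    (h : a ≫ ξ.b = k ≫ c) : F.obj.obj (op T) := psi h𝒳 R ((ξ.σ a k h).push θ)

theorem fs_congr (ξ : VObj x c) (θ : ξ.pt ⟶ atId y) {T : Over S} {a a' : T ⟶ 𝒳.p.obj ξ.pt} {k k' : T ⟶ Z}
    (ha : a = a') (hk : k = k') (h : a ≫ ξ.b = k ≫ c) (h' : a' ≫ ξ.b = k' ≫ c) :
    fs h𝒳 R ξ θ a k h = fs h𝒳 R ξ θ a' k' h' := by
  subst ha hk
  rfl

theorem fs_res (ξ : VObj x c) (θ : ξ.pt ⟶ atId y) {T T' : Over S} (g : T' ⟶ T) (a : T ⟶ 𝒳.p.obj ξ.pt) (k : T ⟶ Z)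
    (h : a ≫ ξ.b = k ≫ c) (h' : (g ≫ a) ≫ ξ.b = (g ≫ k) ≫ c) :
    F.obj.map g.op (fs h𝒳 R ξ θ a k h) = fs h𝒳 R ξ θ (g ≫ a) (g ≫ k) h' := by
  unfold fs
  rw [← psi_res, WPt.push_res, ← ξ.σ_res g a k h h']

theorem fs_base (ξ : VObj x c) (θ : ξ.pt ⟶ atId y) {T : Over S} (a : T ⟶ 𝒳.p.obj ξ.pt) (k : T ⟶ Z)
    (h : a ≫ ξ.b = k ≫ c) : π.hom.app (op T) (fs h𝒳 R ξ θ a k h) =
      (⟨a ≫ 𝒳.p.map θ ≫ eqToHom (atId_w y)⟩ : ((yon S).obj T₀).obj.obj (op T)) := by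
  unfold fs
  rw [psi_base, base₀_push_σ]

theorem fs_hom {ξ η : VObj x c} (φ : ξ ⟶ η) (θ : η.pt ⟶ atId y) {T : Over S} (a : T ⟶ 𝒳.p.obj ξ.pt) (k : T ⟶ Z)
    (h : a ≫ ξ.b = k ≫ c) (h' : (a ≫ 𝒳.p.map φ.hom) ≫ η.b = k ≫ c) :
    fs h𝒳 R η θ (a ≫ 𝒳.p.map φ.hom) k h' = fs h𝒳 R ξ (φ.hom ≫ θ) a k h := by
  unfold fs
  rw [← WPt.push_push, φ.σ_eq a k h h']

include hc1 in
theorem fs_compat (ξ : VObj x c) (θ : ξ.pt ⟶ atId y) {T : Over S} (a : T ⟶ 𝒳.p.obj ξ.pt) (m : T ⟶ TZ)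
    (h : a ≫ binLift hTB (𝒳.p.map θ ≫ eqToHom (atId_w y)) ξ.b = m ≫ c') (h' : a ≫ ξ.b = (m ≫ zZ) ≫ c) :
    π.hom.app (op T) (fs h𝒳 R ξ θ a (m ≫ zZ) h') =
      ((yon S).map zT).hom.app (op T) (⟨m⟩ : ((yon S).obj TZ).obj.obj (op T)) := by
  rw [fs_base]
  apply ULift.ext
  exact cond_g hc1 (binLift_fst hTB _ _) h

/-- The point of the Weil restriction attached to an object of `V x c` with a morphism to `y(𝟙)`. -/
noncomputable def toPt (ξ : VObj x c) (θ : ξ.pt ⟶ atId y) : K893.Wr.Pt c' w' (𝒳.p.obj ξ.pt) where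
  t := binLift hTB (𝒳.p.map θ ≫ eqToHom (atId_w y)) ξ.b
  F {T₂} a m h := pbSec sq (fs h𝒳 R ξ θ a (m ≫ zZ) (cond_b hc2 (binLift_snd hTB _ _) h))
    (⟨m⟩ : ((yon S).obj TZ).obj.obj (op T₂)) (fs_compat h𝒳 R hTB hc1 ξ θ a m h _)
  w_F {T₂} a m h := pbSec_snd sq _ _ _
  nat {T₂ T₃} g a m h := by
    refine K595.Sections.section_ext sq ?_ ?_
    · rw [NatTrans.naturality_apply, pbSec_fst, pbSec_fst, fs_res h𝒳 R ξ θ g a (m ≫ zZ) _ (by
        rw [Category.assoc, Category.assoc, cond_b hc2 (binLift_snd hTB _ _) h])]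
      exact fs_congr h𝒳 R ξ θ rfl (Category.assoc _ _ _).symm _ _
    · rw [NatTrans.naturality_apply, pbSec_snd, pbSec_snd]
      rfl

theorem toPt_fst (ξ : VObj x c) (θ : ξ.pt ⟶ atId y) {T₂ : Over S} (a : T₂ ⟶ 𝒳.p.obj ξ.pt) (m : T₂ ⟶ TZ)
    (h : a ≫ (toPt h𝒳 R hTB hc1 hc2 sq ξ θ).t = m ≫ c') :
    f'.hom.app (op T₂) ((toPt h𝒳 R hTB hc1 hc2 sq ξ θ).F a m h) =
      fs h𝒳 R ξ θ a (m ≫ zZ) (cond_b hc2 (binLift_snd hTB _ _) h) :=
  pbSec_fst sq _ _ (fs_compat h𝒳 R hTB hc1 ξ θ a m h _)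

/-- Naturality of `toPt`. -/
theorem toPt_res {ξ η : VObj x c} (φ : ξ ⟶ η) (θ : η.pt ⟶ atId y) (θ' : ξ.pt ⟶ atId y) (hθ : φ.hom ≫ θ = θ') :
    (toPt h𝒳 R hTB hc1 hc2 sq η θ).res (𝒳.p.map φ.hom) = toPt h𝒳 R hTB hc1 hc2 sq ξ θ' := by
  subst hθ
  refine K893.Wr.Pt.ext ?_ ?_
  · refine bin_ext hTB ?_ ?_
    · rw [K893.Wr.Pt.res_t]
      refine (Category.assoc _ _ _).trans ?_
      refine (congrArg (𝒳.p.map φ.hom ≫ ·) (binLift_fst hTB _ _)).trans ?_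
      refine Eq.trans ?_ (binLift_fst hTB _ _).symm
      rw [Functor.map_comp, Category.assoc]
    · rw [K893.Wr.Pt.res_t]
      refine (Category.assoc _ _ _).trans ?_
      refine (congrArg (𝒳.p.map φ.hom ≫ ·) (binLift_snd hTB _ _)).trans ?_
      refine Eq.trans ?_ (binLift_snd hTB _ _).symm
      exact φ.b_eq
  · intro T₂ a m h1 h2
    refine K595.Sections.section_ext sq ?_ ?_
    · rw [K893.Wr.Pt.res_F, toPt_fst, toPt_fst]
      exact fs_hom h𝒳 R φ θ a _ _ _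
    · rw [K893.Wr.Pt.w_F, K893.Wr.Pt.w_F]

include h𝒳 hc1 hc2 hTB hTZ sq in
theorem exists_w {y' : 𝒳.obj} (θ : y' ⟶ atId y) (s : K893.Wr.Pt c' w' (𝒳.p.obj y'))
    (hs : s.t ≫ tT = 𝒳.p.map θ ≫ eqToHom (atId_w y)) {T : Over S} (a : T ⟶ 𝒳.p.obj y') (k : T ⟶ Z)
    (h : a ≫ s.t ≫ tB = k ≫ c) : ∃ w : WPt x y' T, w.base = a ∧ ∀ (m : T ⟶ TZ) (hm : a ≫ s.t = m ≫ c'),
      m ≫ zZ = k → psi h𝒳 R (w.push θ) = f'.hom.app (op T) (s.F a m hm) := by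
  have hm0 : a ≫ s.t = binLift hTZ (a ≫ s.t ≫ tT) k ≫ c' := by
    refine bin_ext hTB ?_ ?_
    · rw [Category.assoc, Category.assoc, hc1, binLift_fst]
    · rw [Category.assoc, h, Category.assoc, hc2, ← Category.assoc, binLift_snd]
  obtain ⟨w, hw⟩ := psi_surj h𝒳 R (f'.hom.app (op T) (s.F a _ hm0))
  have hb : base₀ w = a ≫ 𝒳.p.map θ ≫ eqToHom (atId_w y) := by
    have h1 := psi_base h𝒳 R w
    rw [hw] at h1
    have h2 : π.hom.app (op T) (f'.hom.app (op T) (s.F a _ hm0)) =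
        ((yon S).map zT).hom.app (op T) (w'.hom.app (op T) (s.F a _ hm0)) :=
      congrArg (fun r => r.hom.app (op T) (s.F a _ hm0)) sq.w
    rw [h2, s.w_F] at h1
    have h3 : binLift hTZ (a ≫ s.t ≫ tT) k ≫ zT = base₀ w := congrArg ULift.down h1
    rw [← h3, binLift_fst, hs]
  obtain ⟨w₁, h1, h2⟩ := WPt.exists_pull h𝒳 w θ a (by
    unfold base₀ at hb
    rw [← Category.assoc] at hb
    exact ((cancel_mono _).1 hb).symm)
  refine ⟨w₁, h1, fun m hm hk => ?_⟩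
  rw [h2, hw]
  congr 1
  refine K893.Wr.Pt.F_congr rfl _ _ _ _ rfl ?_ _ _
  refine bin_ext hTZ ?_ ?_
  · rw [binLift_fst, ← hc1, ← Category.assoc, hm, Category.assoc]
  · rw [binLift_snd, hk]

include hTB hc1 hc2 in
theorem exists_m {y' : 𝒳.obj} {t : 𝒳.p.obj y' ⟶ TB} {T : Over S} {a : T ⟶ 𝒳.p.obj y'} {k : T ⟶ Z}
    (h : a ≫ t ≫ tB = k ≫ c) (hTZ : IsLimit (BinaryFan.mk zT zZ)) : ∃ m : T ⟶ TZ, a ≫ t = m ≫ c' ∧ m ≫ zZ = k := by
  refine ⟨binLift hTZ (a ≫ t ≫ tT) k, ?_, binLift_snd hTZ _ _⟩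
  refine bin_ext hTB ?_ ?_
  · rw [Category.assoc, Category.assoc, hc1, binLift_fst]
  · rw [Category.assoc, h, Category.assoc, hc2, ← Category.assoc, binLift_snd]

/-- The object of `V x c` attached to a point of the Weil restriction. -/
noncomputable def ofPt {y' : 𝒳.obj} (θ : y' ⟶ atId y) (s : K893.Wr.Pt c' w' (𝒳.p.obj y'))
    (hs : s.t ≫ tT = 𝒳.p.map θ ≫ eqToHom (atId_w y)) : VObj x c where
  pt := y'
  b := s.t ≫ tB
  σ {T} a k h := (exists_w h𝒳 R hTB hTZ hc1 hc2 sq θ s hs a k h).choose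
  σ_base {T} a k h := (exists_w h𝒳 R hTB hTZ hc1 hc2 sq θ s hs a k h).choose_spec.1
  σ_res {T T'} g a k h h' := by
    have e1 := (exists_w h𝒳 R hTB hTZ hc1 hc2 sq θ s hs a k h).choose_spec
    have e2 := (exists_w h𝒳 R hTB hTZ hc1 hc2 sq θ s hs (g ≫ a) (g ≫ k) h').choose_spec
    obtain ⟨m, hm, hk⟩ := exists_m hTB hc1 hc2 h hTZ
    refine WPt.eq_of_push h𝒳 θ ?_ ?_
    · rw [e2.1, WPt.base_res, e1.1]
    · refine psi_inj h𝒳 R ?_
      have hgm : (g ≫ a) ≫ s.t = (g ≫ m) ≫ c' := by rw [Category.assoc, hm, Category.assoc]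
      rw [e2.2 (g ≫ m) hgm (by rw [Category.assoc, hk]), ← WPt.push_res, psi_res, e1.2 m hm hk,
        ← NatTrans.naturality_apply, s.nat]

theorem ofPt_σ {y' : 𝒳.obj} (θ : y' ⟶ atId y) (s : K893.Wr.Pt c' w' (𝒳.p.obj y'))
    (hs : s.t ≫ tT = 𝒳.p.map θ ≫ eqToHom (atId_w y)) {T : Over S} (a : T ⟶ 𝒳.p.obj y') (k : T ⟶ Z)
    (h : a ≫ s.t ≫ tB = k ≫ c) (m : T ⟶ TZ) (hm : a ≫ s.t = m ≫ c') (hk : m ≫ zZ = k) :
    psi h𝒳 R (((ofPt h𝒳 R hTB hTZ hc1 hc2 sq θ s hs).σ a k h).push θ) = f'.hom.app (op T) (s.F a m hm) :=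
  (exists_w h𝒳 R hTB hTZ hc1 hc2 sq θ s hs a k h).choose_spec.2 m hm hk

theorem toPt_ofPt {y' : 𝒳.obj} (θ : y' ⟶ atId y) (s : K893.Wr.Pt c' w' (𝒳.p.obj y'))
    (hs : s.t ≫ tT = 𝒳.p.map θ ≫ eqToHom (atId_w y)) :
    toPt h𝒳 R hTB hc1 hc2 sq (ofPt h𝒳 R hTB hTZ hc1 hc2 sq θ s hs) θ = s := by
  refine K893.Wr.Pt.ext ?_ ?_
  · refine bin_ext hTB ?_ ?_
    · exact (binLift_fst hTB _ _).trans hs.symm
    · exact binLift_snd hTB _ _
  · intro T₂ a m h1 h2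
    refine K595.Sections.section_ext sq ?_ ?_
    · rw [toPt_fst]
      exact ofPt_σ h𝒳 R hTB hTZ hc1 hc2 sq θ s hs a (m ≫ zZ) _ m h2 rfl
    · rw [K893.Wr.Pt.w_F, K893.Wr.Pt.w_F]

include hTZ in
theorem exists_hom_of_toPt {ξ ξ' : VObj x c} (θ : ξ.pt ⟶ atId y) (θ' : ξ'.pt ⟶ atId y)
    (g : 𝒳.p.obj ξ.pt ⟶ 𝒳.p.obj ξ'.pt)
    (h : (toPt h𝒳 R hTB hc1 hc2 sq ξ' θ').res g = toPt h𝒳 R hTB hc1 hc2 sq ξ θ) :
    ∃ φ : ξ ⟶ ξ', 𝒳.p.map φ.hom = g ∧ φ.hom ≫ θ' = θ := by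
  have ht : g ≫ (toPt h𝒳 R hTB hc1 hc2 sq ξ' θ').t = (toPt h𝒳 R hTB hc1 hc2 sq ξ θ).t :=
    congrArg K893.Wr.Pt.t h
  have ht1 : g ≫ 𝒳.p.map θ' = 𝒳.p.map θ := by
    have h1 := congrArg (fun r => r ≫ tT) ht
    have h2 : g ≫ 𝒳.p.map θ' ≫ eqToHom (atId_w y) = 𝒳.p.map θ ≫ eqToHom (atId_w y) := by
      refine Eq.trans ?_ (h1.trans (binLift_fst hTB _ _))
      refine Eq.trans ?_ (Category.assoc _ _ _).symm
      exact congrArg (g ≫ ·) (binLift_fst hTB _ _).symm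
    rw [← Category.assoc] at h2
    exact (cancel_mono _).1 h2
  have ht2 : g ≫ ξ'.b = ξ.b := by
    have h1 := congrArg (fun r => r ≫ tB) ht
    refine Eq.trans ?_ (h1.trans (binLift_snd hTB _ _))
    refine Eq.trans ?_ (Category.assoc _ _ _).symm
    exact congrArg (g ≫ ·) (binLift_snd hTB _ _).symm
  obtain ⟨χ, h1, h2⟩ := exists_hom h𝒳 θ' θ g ht1
  subst h1
  refine ⟨⟨χ, ht2, fun {T} a k hk hk' => ?_⟩, rfl, h2⟩
  refine WPt.eq_of_push h𝒳 θ' ?_ ?_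
  · rw [WPt.base_push, ξ.σ_base, ξ'.σ_base]
  · rw [WPt.push_push, h2]
    apply psi_inj h𝒳 R
    obtain ⟨m, hm, hmk⟩ := exists_m hTB hc1 hc2 (y' := ξ.pt) (t := (toPt h𝒳 R hTB hc1 hc2 sq ξ θ).t) (a := a) (k := k) (by
      rw [← hk]
      exact congrArg (a ≫ ·) (binLift_snd hTB _ _)) hTZ
    subst hmk
    have hm' : a ≫ ((toPt h𝒳 R hTB hc1 hc2 sq ξ' θ').res (𝒳.p.map χ)).t = m ≫ c' := by rw [h]; exact hm
    have h3 := K893.Wr.Pt.F_congr h a a m m rfl rfl hm' hm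
    have h4 := congrArg (f'.hom.app (op T)) h3
    rw [K893.Wr.Pt.res_F, toPt_fst, toPt_fst] at h4
    exact h4.symm

/-! ### the representation -/

/-- The morphism to `y(𝟙)` of an object of the fibre product. -/
def thz {𝒲 : BasedCategory.{v, max (u + 1) w v} (Over S)} {φ : 𝒲 ⥤ᵇ 𝒳} (z : (FibCat.fp y φ).obj) :
    φ.obj z.obj.snd ⟶ atId y := z.obj.iso.inv ≫ y.map (toId z.obj.fst)

omit h𝒳 in
theorem p_thz (z : (FibCat.fp y (toX x c)).obj) :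
    𝒳.p.map (thz z) = eqToHom (fp_snd_eq z) ≫ z.obj.fst.hom ≫ eqToHom (atId_w y).symm := by
  have hv : Vert 𝒳.p z.obj.iso.inv := Vert.iso_inv (fp_vert z)
  have h3 : (FibCat.overCat T₀).p.map (toId z.obj.fst) = z.obj.fst.hom := rfl
  unfold thz
  rw [Functor.map_comp, hv.map_eq, map_map, h3]
  simp

theorem thz_hom {z z' : (FibCat.fp y (toX x c)).obj} (m : z ⟶ z') : m.hom.snd.hom ≫ thz z' = thz z := by
  unfold thz
  have h := fp_w m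
  have h1 : m.hom.snd.hom ≫ z'.obj.iso.inv = z.obj.iso.inv ≫ y.map m.hom.fst := by
    rw [Iso.comp_inv_eq, Category.assoc, Iso.eq_inv_comp]
    exact h.symm
  refine (Category.assoc _ _ _).symm.trans ?_
  rw [h1, Category.assoc, ← y.toFunctor.map_comp]
  congr 2
  exact Over.OverMorphism.ext (Over.w m.hom.fst)

/-- The section attached to an object of the fibre product. -/
noncomputable def secz (z : (FibCat.fp y (toX x c)).obj) :
    K893.Wr.Pt c' w' ((FibCat.fp y (toX x c)).p.obj z) :=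
  (toPt h𝒳 R hTB hc1 hc2 sq z.obj.snd (thz z)).res (eqToHom (fp_snd_eq z).symm)


theorem res_res_pt {T₁ T₂ T₃ : Over S} (s : K893.Wr.Pt c' w' T₁) (f : T₂ ⟶ T₁) (g : T₃ ⟶ T₂) :
    (s.res f).res g = s.res (g ≫ f) :=
  K893.Wr.Pt.ext (Category.assoc _ _ _).symm (fun _ _ _ _ => K893.Wr.Pt.F_congr rfl _ _ _ _ (Category.assoc _ _ _) rfl _ _)

theorem res_id_pt {T₁ : Over S} (s : K893.Wr.Pt c' w' T₁) : s.res (𝟙 T₁) = s :=
  K893.Wr.Pt.ext (Category.id_comp _) (fun _ _ _ _ => K893.Wr.Pt.F_congr rfl _ _ _ _ (Category.comp_id _) rfl _ _)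

/-- **The fibre product of `V x c ⟶ 𝒳` with a scheme is a Weil restriction.** -/
noncomputable def secRep : K738.SecRep (FibCat.fpFst y (toX x c)) (K893.Wr.Res c' w')
    (K893.Wr.π c' w' ≫ (yon S).map tT) where
  sec z := secz h𝒳 R hTB hc1 hc2 sq z
  map {z z'} m := by
    change (secz h𝒳 R hTB hc1 hc2 sq z').res _ = secz h𝒳 R hTB hc1 hc2 sq z
    unfold secz
    rw [← toPt_res h𝒳 R hTB hc1 hc2 sq m.hom.snd (thz z') (thz z) (thz_hom m), res_res_pt, res_res_pt]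
    congr 1
    have h1 : 𝒳.p.map m.hom.snd.hom = _ := fp_map_snd m
    rw [h1]
    simp
  full {z z'} g hg := by
    have hg' : (secz h𝒳 R hTB hc1 hc2 sq z').res g = secz h𝒳 R hTB hc1 hc2 sq z := hg
    have hg2 := congrArg (K893.Wr.Pt.res (eqToHom (fp_snd_eq z))) hg'
    unfold secz at hg2
    rw [res_res_pt, res_res_pt, res_res_pt, eqToHom_trans, eqToHom_refl, res_id_pt] at hg2
    obtain ⟨φ, h1, h2⟩ := exists_hom_of_toPt h𝒳 R hTB hTZ hc1 hc2 sq (thz z) (thz z') _ hg2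
    have h3 : g ≫ z'.obj.fst.hom = z.obj.fst.hom := by
      have h4 := congrArg (fun r => 𝒳.p.map r) h2
      dsimp only at h4
      rw [Functor.map_comp, h1, p_thz, p_thz] at h4
      simp only [Category.assoc] at h4
      have h5 := (cancel_epi _).1 h4
      rw [eqToHom_trans_assoc, eqToHom_refl, Category.id_comp] at h5
      rw [← Category.assoc] at h5
      exact (cancel_mono _).1 h5
    refine ⟨homFp (Over.homMk g h3) φ ?_, rfl⟩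
    refine hom_ext' h𝒳 (thz z') ?_ ?_
    · have h6 : 𝒳.p.map ((toX x c).map φ) = _ := h1
      have h7 : (FibCat.overCat T₀).p.map (Over.homMk g h3 : z.obj.fst ⟶ z'.obj.fst) = g := rfl
      rw [Functor.map_comp, Functor.map_comp, map_map, h7, h6, (fp_vert z).map_eq, (fp_vert z').map_eq]
      simp
    · have h8 : (toX x c).map φ ≫ thz z' = thz z := h2
      rw [Category.assoc, Category.assoc, h8]
      unfold thz
      rw [Iso.hom_inv_id_assoc, Iso.hom_inv_id_assoc, ← y.toFunctor.map_comp]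
      congr 1
      exact Over.OverMorphism.ext h3
  faithful {z z'} m m' h := by
    have hf : m.hom.fst = m'.hom.fst := Over.OverMorphism.ext h
    refine fp_hom_ext hf (VObj.hom_ext (hom_ext' h𝒳 (thz z') ?_ ?_))
    · have h1 : 𝒳.p.map m.hom.snd.hom = _ := fp_map_snd m
      have h2 : 𝒳.p.map m'.hom.snd.hom = _ := fp_map_snd m'
      rw [h1, h2, hf]
    · rw [thz_hom, thz_hom]
  surj {T} s₀ := by
    obtain ⟨s, rfl⟩ : ∃ s : K893.Wr.Pt c' w' T, s = s₀ := ⟨s₀, rfl⟩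
    let a : Over T₀ := Over.mk (s.t ≫ tT)
    have e : 𝒳.p.obj (y.obj a) = T := y.w_obj a
    have hs : (s.res (eqToHom e)).t ≫ tT = 𝒳.p.map (y.map (toId a)) ≫ eqToHom (atId_w y) := by
      have h3 : (FibCat.overCat T₀).p.map (toId a) = s.t ≫ tT := rfl
      rw [map_map, h3]
      simp
    let ξ := ofPt h𝒳 R hTB hTZ hc1 hc2 sq (y.map (toId a)) (s.res (eqToHom e)) hs
    let z : (FibCat.fp y (toX x c)).obj := mkFp y (toX x c) a ξ (Iso.refl (y.obj a)) (vert_id _)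
    refine ⟨z, rfl, ?_⟩
    have h1 : thz z = y.map (toId a) := Category.id_comp _
    have h2 : secz h𝒳 R hTB hc1 hc2 sq z = s := by
      unfold secz
      rw [h1]
      have h3 : toPt h𝒳 R hTB hc1 hc2 sq z.obj.snd (y.map (toId a)) = s.res (eqToHom e) :=
        toPt_ofPt h𝒳 R hTB hTZ hc1 hc2 sq _ _ hs
      rw [h3, res_res_pt, eqToHom_trans, eqToHom_refl]
      exact res_id_pt s
    refine Eq.trans ?_ h2
    exact congrArg (fun g : (K893.Wr.Res c' w').obj.obj _ ⟶ (K893.Wr.Res c' w').obj.obj _ =>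
      g (secz h𝒳 R hTB hc1 hc2 sq z)) ((K893.Wr.Res c' w').obj.map_id _)
  proj z := by
    apply ULift.ext
    change (eqToHom (fp_snd_eq z).symm ≫ binLift hTB (𝒳.p.map (thz z) ≫ eqToHom (atId_w y)) z.obj.snd.b) ≫ tT =
      K738.str (FibCat.fpFst y (toX x c)) z
    rw [Category.assoc, binLift_fst, p_thz]
    simp
    rfl

end K744.ArtV
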