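import Mathlib.LinearAlgebra.FreeModule.Finite.Basic
import Mathlib.LinearAlgebra.Basis.Basic
import Mathlib.RingTheory.TensorProduct.Basic
import Mathlib.RingTheory.TensorProduct.Free
import Mathlib.Algebra.MvPolynomial.CommRing
import Mathlib.RingTheory.Polynomial.Basic
import Mathlib.RingTheory.FinitePresentation
import Mathlib.Algebra.Category.Ring.Constructions

/-!
# Structure constants of algebras of rank `n`

* `SC n C`: structure constants of a commutative algebra structure on `C^n`; `SC.Alg β` the algebra.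
* `SC.map`: base change along a ring map, with `SC.mapHom : β.Alg →+* (β.map g).Alg`.
* `SC.ofBasis`: structure constants of an algebra with a basis.
* `SC.E n`, `SC.univ n : SC n (E n)`: the universal structure constants.
-/

set_option autoImplicit false

universe u v

namespace K744

/-- the integers in universe `u` -/
def ZZ : Type u := ULift.{u} ℤ

noncomputable instance : CommRing ZZ.{u} := inferInstanceAs (CommRing (ULift.{u} ℤ))

/-- `ZZ` is the integers -/
noncomputable def ZZ.equiv : ZZ.{u} ≃+* ℤ := ULift.ringEquiv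

/-- the map from `ZZ` -/
noncomputable def ZZ.hom (C : Type u) [CommRing C] : ZZ.{u} →+* C := (Int.castRingHom C).comp ZZ.equiv.toRingHom

lemma ZZ.hom_ext {C : Type u} [CommRing C] (f g : ZZ.{u} →+* C) : f = g := by
  refine RingHom.ext fun x => ?_
  have e : x = ZZ.equiv.symm (ZZ.equiv x) := (RingEquiv.symm_apply_apply _ _).symm
  rw [e]
  exact DFunLike.congr_fun (RingHom.ext_int (f.comp ZZ.equiv.symm.toRingHom) (g.comp ZZ.equiv.symm.toRingHom)) _

instance : IsNoetherianRing ZZ.{u} := isNoetherianRing_of_ringEquiv ℤ ZZ.equiv.symm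

/-- structure constants of a commutative ring structure on `C^n` -/
@[ext]
structure SC (n : ℕ) (C : Type u) [CommRing C] where
  m : Fin n → Fin n → Fin n → C
  e : Fin n → C
  comm : ∀ i j k, m i j k = m j i k
  assoc : ∀ i j k l, ∑ s, m i j s * m s k l = ∑ s, m j k s * m i s l
  one : ∀ j l, ∑ i, e i * m i j l = if j = l then 1 else 0

namespace SC

variable {n : ℕ} {C : Type u} [CommRing C]

/-- the algebra with given structure constants -/
structure Alg (β : SC n C) : Type u where
  c : Fin n → C

namespace Alg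

variable {β : SC n C}

@[ext] lemma ext' {x y : β.Alg} (h : x.c = y.c) : x = y := by
  cases x; cases y; cases h; rfl

instance : Add β.Alg := ⟨fun x y => ⟨x.c + y.c⟩⟩
instance : Zero β.Alg := ⟨⟨0⟩⟩
instance : Neg β.Alg := ⟨fun x => ⟨-x.c⟩⟩
instance : Sub β.Alg := ⟨fun x y => ⟨x.c - y.c⟩⟩
instance : One β.Alg := ⟨⟨β.e⟩⟩
instance : Mul β.Alg := ⟨fun x y => ⟨fun k => ∑ i, ∑ j, x.c i * y.c j * β.m i j k⟩⟩
instance : SMul C β.Alg := ⟨fun a x => ⟨a • x.c⟩⟩
instance : SMul ℕ β.Alg := ⟨fun a x => ⟨a • x.c⟩⟩
instance : SMul ℤ β.Alg := ⟨fun a x => ⟨a • x.c⟩⟩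

@[simp] lemma add_c (x y : β.Alg) : (x + y).c = x.c + y.c := rfl
@[simp] lemma zero_c : (0 : β.Alg).c = 0 := rfl
@[simp] lemma neg_c (x : β.Alg) : (-x).c = -x.c := rfl
@[simp] lemma sub_c (x y : β.Alg) : (x - y).c = x.c - y.c := rfl
@[simp] lemma one_c : (1 : β.Alg).c = β.e := rfl
lemma mul_c (x y : β.Alg) (k : Fin n) : (x * y).c k = ∑ i, ∑ j, x.c i * y.c j * β.m i j k := rfl
@[simp] lemma smul_c (a : C) (x : β.Alg) : (a • x).c = a • x.c := rfl
@[simp] lemma nsmul_c (a : ℕ) (x : β.Alg) : (a • x).c = a • x.c := rfl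
@[simp] lemma zsmul_c (a : ℤ) (x : β.Alg) : (a • x).c = a • x.c := rfl

lemma c_injective : Function.Injective (c : β.Alg → Fin n → C) := fun _ _ h => ext' h

instance : AddCommGroup β.Alg :=
  c_injective.addCommGroup c zero_c add_c neg_c sub_c (fun x a => nsmul_c a x) (fun x a => zsmul_c a x)

lemma mul_comm' (x y : β.Alg) : x * y = y * x := by
  ext k
  rw [mul_c, mul_c, Finset.sum_comm]
  refine Finset.sum_congr rfl fun i _ => Finset.sum_congr rfl fun j _ => ?_
  rw [β.comm, mul_comm (x.c j)]

lemma one_mul' (x : β.Alg) : 1 * x = x := by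
  ext k
  rw [mul_c, Finset.sum_comm]
  have h : ∀ j, ∑ i, (1 : β.Alg).c i * x.c j * β.m i j k = x.c j * (if j = k then 1 else 0) := by
    intro j
    rw [← β.one j k, Finset.mul_sum]
    exact Finset.sum_congr rfl fun i _ => by rw [one_c]; ring
  rw [Finset.sum_congr rfl fun j _ => h j]
  simp

lemma add_mul' (x y z : β.Alg) : (x + y) * z = x * z + y * z := by
  ext k
  rw [add_c, Pi.add_apply, mul_c, mul_c, mul_c, ← Finset.sum_add_distrib]
  refine Finset.sum_congr rfl fun i _ => ?_
  rw [← Finset.sum_add_distrib]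
  exact Finset.sum_congr rfl fun j _ => by rw [add_c, Pi.add_apply]; ring

lemma mul_assoc' (x y z : β.Alg) : x * y * z = x * (y * z) := by
  ext l
  have h1 : (x * y * z).c l = ∑ i, ∑ j, ∑ k, x.c i * y.c j * z.c k * ∑ s, β.m i j s * β.m s k l := by
    rw [mul_c]
    simp only [mul_c, Finset.sum_mul]
    calc ∑ s, ∑ k, ∑ i, ∑ j, x.c i * y.c j * β.m i j s * z.c k * β.m s k l
        = ∑ s, ∑ i, ∑ k, ∑ j, x.c i * y.c j * β.m i j s * z.c k * β.m s k l :=
          Finset.sum_congr rfl fun s _ => Finset.sum_comm
      _ = ∑ s, ∑ i, ∑ j, ∑ k, x.c i * y.c j * β.m i j s * z.c k * β.m s k l :=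
          Finset.sum_congr rfl fun s _ => Finset.sum_congr rfl fun i _ => Finset.sum_comm
      _ = ∑ i, ∑ s, ∑ j, ∑ k, x.c i * y.c j * β.m i j s * z.c k * β.m s k l := Finset.sum_comm
      _ = ∑ i, ∑ j, ∑ s, ∑ k, x.c i * y.c j * β.m i j s * z.c k * β.m s k l :=
          Finset.sum_congr rfl fun i _ => Finset.sum_comm
      _ = ∑ i, ∑ j, ∑ k, ∑ s, x.c i * y.c j * β.m i j s * z.c k * β.m s k l :=
          Finset.sum_congr rfl fun i _ => Finset.sum_congr rfl fun j _ => Finset.sum_comm
      _ = _ := by
          refine Finset.sum_congr rfl fun i _ => Finset.sum_congr rfl fun j _ => Finset.sum_congr rfl fun k _ => ?_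
          rw [Finset.mul_sum]
          exact Finset.sum_congr rfl fun s _ => by ring
  have h2 : (x * (y * z)).c l = ∑ i, ∑ j, ∑ k, x.c i * y.c j * z.c k * ∑ s, β.m j k s * β.m i s l := by
    rw [mul_c]
    simp only [mul_c, Finset.mul_sum, Finset.sum_mul]
    refine Finset.sum_congr rfl fun i _ => ?_
    calc ∑ s, ∑ j, ∑ k, x.c i * (y.c j * z.c k * β.m j k s) * β.m i s l
        = ∑ j, ∑ s, ∑ k, x.c i * (y.c j * z.c k * β.m j k s) * β.m i s l := Finset.sum_comm
      _ = ∑ j, ∑ k, ∑ s, x.c i * (y.c j * z.c k * β.m j k s) * β.m i s l :=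
          Finset.sum_congr rfl fun j _ => Finset.sum_comm
      _ = _ := by
          refine Finset.sum_congr rfl fun j _ => Finset.sum_congr rfl fun k _ => Finset.sum_congr rfl fun s _ => ?_
          ring
  rw [h1, h2]
  exact Finset.sum_congr rfl fun i _ => Finset.sum_congr rfl fun j _ => Finset.sum_congr rfl fun k _ => by
    rw [β.assoc]

instance : CommRing β.Alg :=
  { (inferInstance : AddCommGroup β.Alg) with
    mul := (· * ·)
    one := 1
    left_distrib := fun x y z => by rw [mul_comm', add_mul', mul_comm' y, mul_comm' z]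
    right_distrib := add_mul'
    zero_mul := fun x => by ext k; simp [mul_c]
    mul_zero := fun x => by ext k; simp [mul_c]
    mul_assoc := mul_assoc'
    one_mul := one_mul'
    mul_one := fun x => by rw [mul_comm', one_mul']
    mul_comm := mul_comm' }

instance : Module C β.Alg where
  one_smul x := by ext k; simp
  mul_smul a b x := by ext k; simp [mul_assoc]
  smul_zero a := by ext k; simp
  smul_add a x y := by ext k; simp [mul_add]
  add_smul a b x := by ext k; simp [add_mul]
  zero_smul x := by ext k; simp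

instance : Algebra C β.Alg :=
  Algebra.ofModule
    (fun r x y => by
      ext k
      rw [smul_c, Pi.smul_apply, mul_c, mul_c, Finset.smul_sum]
      refine Finset.sum_congr rfl fun i _ => ?_
      rw [Finset.smul_sum]
      exact Finset.sum_congr rfl fun j _ => by rw [smul_c, Pi.smul_apply, smul_eq_mul, smul_eq_mul]; ring)
    (fun r x y => by
      ext k
      rw [smul_c, Pi.smul_apply, mul_c, mul_c, Finset.smul_sum]
      refine Finset.sum_congr rfl fun i _ => ?_
      rw [Finset.smul_sum]
      exact Finset.sum_congr rfl fun j _ => by rw [smul_c, Pi.smul_apply, smul_eq_mul, smul_eq_mul]; ring)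

lemma algebraMap_c (a : C) (k : Fin n) : (algebraMap C β.Alg a).c k = a * β.e k := by
  rw [Algebra.algebraMap_eq_smul_one, smul_c, Pi.smul_apply, one_c, smul_eq_mul]

variable (β) in
/-- coordinates -/
def equivFun : β.Alg ≃ₗ[C] (Fin n → C) where
  toFun := c
  invFun := mk
  map_add' _ _ := rfl
  map_smul' _ _ := rfl
  left_inv _ := rfl
  right_inv _ := rfl

variable (β) in
/-- the standard basis -/
noncomputable def basis : Module.Basis (Fin n) C β.Alg := Module.Basis.ofEquivFun (equivFun β)

instance : Module.Free C β.Alg := Module.Free.of_basis (basis β)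
instance : Module.Finite C β.Alg := Module.Finite.of_basis (basis β)

@[simp] lemma basis_repr (x : β.Alg) (i : Fin n) : (basis β).repr x i = x.c i := rfl

end Alg

section Map

variable {C' C'' : Type u} [CommRing C'] [CommRing C'']

/-- base change of structure constants -/
@[simps]
def map (g : C →+* C') (β : SC n C) : SC n C' where
  m i j k := g (β.m i j k)
  e i := g (β.e i)
  comm i j k := by rw [β.comm]
  assoc i j k l := by
    simp only [← map_mul, ← map_sum, β.assoc]
  one j l := by
    simp only [← map_mul, ← map_sum, β.one]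
    split_ifs <;> simp

lemma map_id (β : SC n C) : β.map (RingHom.id C) = β := rfl

lemma map_map (g : C →+* C') (g' : C' →+* C'') (β : SC n C) : (β.map g).map g' = β.map (g'.comp g) := rfl

/-- the map of algebras over a base change -/
def mapHom (g : C →+* C') (β : SC n C) : β.Alg →+* (β.map g).Alg where
  toFun x := ⟨fun i => g (x.c i)⟩
  map_one' := rfl
  map_mul' x y := by
    ext k
    simp only [Alg.mul_c, map_sum, map_mul, map_m]
  map_zero' := by ext k; simp
  map_add' x y := by ext k; simp

@[simp] lemma mapHom_c (g : C →+* C') (β : SC n C) (x : β.Alg) (i : Fin n) : (mapHom g β x).c i = g (x.c i) := rfl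

lemma mapHom_algebraMap (g : C →+* C') (β : SC n C) (a : C) :
    mapHom g β (algebraMap C β.Alg a) = algebraMap C' (β.map g).Alg (g a) := by
  ext k
  rw [mapHom_c, Alg.algebraMap_c, Alg.algebraMap_c, map_mul]
  rfl

lemma mapHom_surjective {g : C →+* C'} (hg : Function.Surjective g) (β : SC n C) :
    Function.Surjective (mapHom g β) := by
  intro x
  choose y hy using fun i => hg (x.c i)
  exact ⟨⟨y⟩, Alg.ext' (funext hy)⟩

lemma mapHom_comp (g : C →+* C') (g' : C' →+* C'') (β : SC n C) (x : β.Alg) :
    mapHom g' (β.map g) (mapHom g β x) = mapHom (g'.comp g) β x := rfl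

/-- transport along an equality of structure constants -/
def congr {β β' : SC n C} (h : β = β') : β.Alg ≃ₐ[C] β'.Alg where
  toFun x := ⟨x.c⟩
  invFun x := ⟨x.c⟩
  left_inv _ := rfl
  right_inv _ := rfl
  map_mul' x y := by subst h; rfl
  map_add' _ _ := rfl
  commutes' a := by subst h; rfl

@[simp] lemma congr_c {β β' : SC n C} (h : β = β') (x : β.Alg) : (congr h x).c = x.c := rfl

end Map

section Basis

variable {D : Type v} [CommRing D] [Algebra C D] (b : Module.Basis (Fin n) C D)

/-- the structure constants of an algebra with respect to a basis -/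
noncomputable def ofBasis : SC n C where
  m i j k := b.repr (b i * b j) k
  e i := b.repr 1 i
  comm i j k := by rw [mul_comm]
  assoc i j k l := by
    have h1 : ∀ (x : D) (k : Fin n), ∑ s, b.repr x s * b.repr (b s * b k) l = b.repr (x * b k) l := by
      intro x k
      conv_rhs => rw [← b.sum_repr x, Finset.sum_mul, map_sum, Finsupp.finsetSum_apply]
      refine Finset.sum_congr rfl fun s _ => ?_
      rw [smul_mul_assoc, map_smul, Finsupp.smul_apply, smul_eq_mul]
    rw [h1]
    have h2 : ∑ s, b.repr (b j * b k) s * b.repr (b i * b s) l = b.repr (b j * b k * b i) l := by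
      rw [← h1]
      exact Finset.sum_congr rfl fun s _ => by rw [mul_comm (b i)]
    rw [h2]
    congr 2
    ring
  one j l := by
    have h1 : ∑ i, b.repr 1 i * b.repr (b i * b j) l = b.repr (1 * b j) l := by
      conv_rhs => rw [← b.sum_repr (1 : D), Finset.sum_mul, map_sum, Finsupp.finsetSum_apply]
      refine Finset.sum_congr rfl fun s _ => ?_
      rw [smul_mul_assoc, map_smul, Finsupp.smul_apply, smul_eq_mul]
    rw [h1, one_mul, Module.Basis.repr_self, Finsupp.single_apply]

/-- the algebra is recovered from its structure constants -/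
noncomputable def ofBasisEquiv : D ≃ₐ[C] (ofBasis b).Alg where
  toFun x := ⟨fun i => b.repr x i⟩
  invFun x := b.equivFun.symm x.c
  left_inv x := by
    change b.equivFun.symm (b.equivFun x) = x
    exact LinearEquiv.symm_apply_apply _ _
  right_inv x := by
    ext i
    change b.equivFun (b.equivFun.symm x.c) i = x.c i
    rw [LinearEquiv.apply_symm_apply]
  map_mul' x y := by
    ext k
    rw [Alg.mul_c]
    change b.repr (x * y) k = ∑ i, ∑ j, b.repr x i * b.repr y j * b.repr (b i * b j) k
    conv_lhs => rw [← b.sum_repr x, Finset.sum_mul, map_sum, Finsupp.finsetSum_apply]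
    refine Finset.sum_congr rfl fun i _ => ?_
    conv_lhs => rw [← b.sum_repr y, Finset.mul_sum, map_sum, Finsupp.finsetSum_apply]
    refine Finset.sum_congr rfl fun j _ => ?_
    rw [smul_mul_smul_comm, map_smul, Finsupp.smul_apply, smul_eq_mul]
  map_add' x y := by
    ext k
    change b.repr (x + y) k = b.repr x k + b.repr y k
    rw [map_add, Finsupp.add_apply]
  commutes' a := by
    ext k
    rw [Alg.algebraMap_c]
    change b.repr (algebraMap C D a) k = a * b.repr 1 k
    rw [Algebra.algebraMap_eq_smul_one, map_smul, Finsupp.smul_apply, smul_eq_mul]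

@[simp] lemma ofBasisEquiv_c (x : D) (i : Fin n) : (ofBasisEquiv b x).c i = b.repr x i := rfl

end Basis

section BaseChange

open CategoryTheory

variable {C' : Type u} [CommRing C'] (g : C →+* C') (β : SC n C)

/-- the standard basis vectors -/
def bv (i : Fin n) : β.Alg := ⟨Pi.single i 1⟩

lemma bv_mul (i j : Fin n) : bv β i * bv β j = ∑ k, algebraMap C β.Alg (β.m i j k) * bv β k := by
  ext l
  rw [Alg.mul_c]
  have h1 : (∑ k, algebraMap C β.Alg (β.m i j k) * bv β k) = ∑ k, β.m i j k • bv β k :=
    Finset.sum_congr rfl fun k _ => (Algebra.smul_def _ _).symm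
  rw [h1]
  have h2 : ∀ (s : Finset (Fin n)) (x : Fin n → β.Alg), (∑ k ∈ s, x k).c l = ∑ k ∈ s, (x k).c l := by
    intro s x
    classical
    induction s using Finset.induction_on with
    | empty => simp
    | insert a s ha ih => rw [Finset.sum_insert ha, Finset.sum_insert ha, Alg.add_c, Pi.add_apply, ih]
  rw [h2]
  simp only [Alg.smul_c, Pi.smul_apply, bv, smul_eq_mul]
  simp [Pi.single_apply]

lemma eq_sum_bv (x : β.Alg) : x = ∑ i, algebraMap C β.Alg (x.c i) * bv β i := by
  have h1 : (∑ k, algebraMap C β.Alg (x.c k) * bv β k) = ∑ k, x.c k • bv β k :=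
    Finset.sum_congr rfl fun k _ => (Algebra.smul_def _ _).symm
  have h2 : ∀ (s : Finset (Fin n)) (x : Fin n → β.Alg) (l : Fin n), (∑ k ∈ s, x k).c l = ∑ k ∈ s, (x k).c l := by
    intro s x l
    classical
    induction s using Finset.induction_on with
    | empty => simp
    | insert a s ha ih => rw [Finset.sum_insert ha, Finset.sum_insert ha, Alg.add_c, Pi.add_apply, ih]
  rw [h1]
  ext l
  rw [h2]
  simp only [Alg.smul_c, Pi.smul_apply, bv, smul_eq_mul]
  simp [Pi.single_apply]

lemma mapHom_bv (i : Fin n) : mapHom g β (bv β i) = bv (β.map g) i := by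
  ext k
  rw [mapHom_c, bv, bv]
  by_cases h : k = i
  · subst h; simp
  · simp [h]

/-- the descent of a pair of ring maps to the base change -/
noncomputable def desc {T : Type u} [CommRing T] (a : C' →+* T) (v : β.Alg →+* T)
    (h : a.comp g = v.comp (algebraMap C β.Alg)) : (β.map g).Alg →+* T where
  toFun x := ∑ i, a (x.c i) * v (bv β i)
  map_zero' := by simp
  map_add' x y := by
    rw [← Finset.sum_add_distrib]
    exact Finset.sum_congr rfl fun i _ => by rw [Alg.add_c, Pi.add_apply, map_add, add_mul]
  map_one' := by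
    have h1 := congrArg v (eq_sum_bv β 1)
    rw [map_one, map_sum] at h1
    rw [h1]
    refine Finset.sum_congr rfl fun i _ => ?_
    rw [map_mul]
    congr 1
    exact DFunLike.congr_fun h (β.e i)
  map_mul' x y := by
    have h2 : ∀ i j, v (bv β i) * v (bv β j) = ∑ k, a (g (β.m i j k)) * v (bv β k) := by
      intro i j
      rw [← map_mul, bv_mul, map_sum]
      refine Finset.sum_congr rfl fun k _ => ?_
      rw [map_mul]
      congr 1
      exact (DFunLike.congr_fun h _).symm
    have h3 : (∑ i, a (x.c i) * v (bv β i)) * ∑ j, a (y.c j) * v (bv β j) =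
        ∑ i, ∑ j, a (x.c i) * a (y.c j) * ∑ k, a (g (β.m i j k)) * v (bv β k) := by
      rw [Finset.sum_mul]
      refine Finset.sum_congr rfl fun i _ => ?_
      rw [Finset.mul_sum]
      refine Finset.sum_congr rfl fun j _ => ?_
      rw [← h2]
      ring
    rw [h3]
    have h4 : ∑ k, a ((x * y).c k) * v (bv β k) =
        ∑ k, ∑ i, ∑ j, a (x.c i) * a (y.c j) * (a (g (β.m i j k)) * v (bv β k)) := by
      refine Finset.sum_congr rfl fun k _ => ?_
      rw [Alg.mul_c, map_sum, Finset.sum_mul]
      refine Finset.sum_congr rfl fun i _ => ?_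
      rw [map_sum, Finset.sum_mul]
      refine Finset.sum_congr rfl fun j _ => ?_
      rw [map_mul, map_mul, map_m]
      ring
    rw [h4, Finset.sum_comm]
    refine Finset.sum_congr rfl fun i _ => ?_
    rw [Finset.sum_comm]
    exact Finset.sum_congr rfl fun j _ => (Finset.mul_sum _ _ _).symm

lemma desc_algebraMap {T : Type u} [CommRing T] (a : C' →+* T) (v : β.Alg →+* T)
    (h : a.comp g = v.comp (algebraMap C β.Alg)) (x : C') :
    desc g β a v h (algebraMap C' _ x) = a x := by
  change ∑ i, a ((algebraMap C' (β.map g).Alg x).c i) * v (bv β i) = a x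
  have h1 := congrArg v (eq_sum_bv β 1)
  rw [map_one, map_sum] at h1
  rw [← mul_one (a x), h1, Finset.mul_sum]
  refine Finset.sum_congr rfl fun i _ => ?_
  rw [Alg.algebraMap_c, map_mul, map_e, map_mul, mul_assoc]
  congr 2
  exact DFunLike.congr_fun h (β.e i)

lemma desc_mapHom {T : Type u} [CommRing T] (a : C' →+* T) (v : β.Alg →+* T)
    (h : a.comp g = v.comp (algebraMap C β.Alg)) (x : β.Alg) :
    desc g β a v h (mapHom g β x) = v x := by
  change ∑ i, a ((mapHom g β x).c i) * v (bv β i) = v x
  conv_rhs => rw [eq_sum_bv β x, map_sum]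
  refine Finset.sum_congr rfl fun i _ => ?_
  rw [map_mul]
  congr 1
  exact DFunLike.congr_fun h (x.c i)

lemma hom_ext_of {T : Type u} [CommRing T] {w w' : (β.map g).Alg →+* T}
    (h1 : w.comp (algebraMap C' _) = w'.comp (algebraMap C' _)) (h2 : w.comp (mapHom g β) = w'.comp (mapHom g β)) :
    w = w' := by
  ext x
  rw [eq_sum_bv _ x, map_sum, map_sum]
  refine Finset.sum_congr rfl fun i _ => ?_
  rw [map_mul, map_mul, ← mapHom_bv]
  congr 1
  · exact DFunLike.congr_fun h1 _
  · exact DFunLike.congr_fun h2 _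

/-- the base change square is a pushout of rings -/
theorem isPushout : IsPushout (CommRingCat.ofHom g) (CommRingCat.ofHom (algebraMap C β.Alg))
    (CommRingCat.ofHom (algebraMap C' (β.map g).Alg)) (CommRingCat.ofHom (mapHom g β)) := by
  have hc : ∀ s : Limits.PushoutCocone (CommRingCat.ofHom g) (CommRingCat.ofHom (algebraMap C β.Alg)),
      s.inl.hom.comp g = s.inr.hom.comp (algebraMap C β.Alg) := fun s => congrArg CommRingCat.Hom.hom s.condition
  refine ⟨⟨?_⟩, ⟨Limits.PushoutCocone.IsColimit.mk _ (fun s => CommRingCat.ofHom (desc g β s.inl.hom s.inr.hom (hc s)))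
    ?_ ?_ ?_⟩⟩
  · apply CommRingCat.hom_ext
    exact RingHom.ext fun x => (mapHom_algebraMap g β x).symm
  · intro s
    apply CommRingCat.hom_ext
    exact RingHom.ext fun x => desc_algebraMap g β _ _ (hc s) x
  · intro s
    apply CommRingCat.hom_ext
    exact RingHom.ext fun x => desc_mapHom g β _ _ (hc s) x
  · intro s m h1 h2
    apply CommRingCat.hom_ext
    apply hom_ext_of
    · exact RingHom.ext fun x => (DFunLike.congr_fun (congrArg CommRingCat.Hom.hom h1) x).trans
        (desc_algebraMap g β _ _ (hc s) x).symm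
    · exact RingHom.ext fun x => (DFunLike.congr_fun (congrArg CommRingCat.Hom.hom h2) x).trans
        (desc_mapHom g β _ _ (hc s) x).symm

end BaseChange

section Univ

variable (n)

/-- variables of the universal structure constants -/
abbrev V : Type := (Fin n × Fin n × Fin n) ⊕ Fin n

/-- the polynomial ring -/
abbrev Po : Type u := MvPolynomial (V n) ZZ.{u}

/-- the variables -/
noncomputable abbrev xm (i j k : Fin n) : Po.{u} n := MvPolynomial.X (Sum.inl (i, j, k))

noncomputable abbrev xe (i : Fin n) : Po.{u} n := MvPolynomial.X (Sum.inr i)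

/-- the relations -/
def rels : Set (Po.{u} n) :=
  {x | ∃ i j k, x = xm n i j k - xm n j i k} ∪
  {x | ∃ i j k l, x = ∑ s, xm n i j s * xm n s k l - ∑ s, xm n j k s * xm n i s l} ∪
  {x | ∃ j l, x = ∑ i, xe n i * xm n i j l - if j = l then 1 else 0}

/-- the base of the universal algebra -/
abbrev E : Type u := Po.{u} n ⧸ Ideal.span (rels.{u} n)

/-- the projection -/
noncomputable def E.mk : Po.{u} n →+* E.{u} n := Ideal.Quotient.mk _

lemma E.mk_surjective : Function.Surjective (E.mk.{u} n) := Ideal.Quotient.mk_surjective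

lemma E.mk_eq_zero {x : Po.{u} n} (h : x ∈ rels.{u} n) : E.mk n x = 0 :=
  Ideal.Quotient.eq_zero_iff_mem.2 (Ideal.subset_span h)

/-- the universal structure constants -/
noncomputable def univ : SC n (E.{u} n) where
  m i j k := E.mk n (xm n i j k)
  e i := E.mk n (xe n i)
  comm i j k := by
    rw [← sub_eq_zero, ← map_sub]
    exact E.mk_eq_zero n (Or.inl (Or.inl ⟨i, j, k, rfl⟩))
  assoc i j k l := by
    simp only [← map_mul, ← map_sum]
    rw [← sub_eq_zero, ← map_sub]
    exact E.mk_eq_zero n (Or.inl (Or.inr ⟨i, j, k, l, rfl⟩))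
  one j l := by
    simp only [← map_mul, ← map_sum]
    have h : (if j = l then (1 : E.{u} n) else 0) = E.mk n (if j = l then 1 else 0) := by
      split_ifs <;> simp
    rw [h, ← sub_eq_zero, ← map_sub]
    exact E.mk_eq_zero n (Or.inr ⟨j, l, rfl⟩)

variable {n}

/-- the evaluation of polynomials -/
noncomputable def ev (β : SC n C) : Po.{u} n →+* C :=
  MvPolynomial.eval₂Hom (ZZ.hom C) (Sum.elim (fun t => β.m t.1 t.2.1 t.2.2) β.e)

@[simp] lemma ev_xm (β : SC n C) (i j k : Fin n) : ev β (xm n i j k) = β.m i j k := by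
  simp [ev]

@[simp] lemma ev_xe (β : SC n C) (i : Fin n) : ev β (xe n i) = β.e i := by
  simp [ev]

/-- the classifying map of structure constants -/
noncomputable def lift (β : SC n C) : E.{u} n →+* C :=
  Ideal.Quotient.lift _ (ev β) (by
    have : Ideal.span (rels.{u} n) ≤ RingHom.ker (ev β) := by
      rw [Ideal.span_le]
      rintro x ((⟨i, j, k, rfl⟩ | ⟨i, j, k, l, rfl⟩) | ⟨j, l, rfl⟩)
      · change ev β _ = 0
        rw [map_sub, ev_xm, ev_xm, β.comm, sub_self]
      · change ev β _ = 0
        simp only [map_sub, map_sum, map_mul, ev_xm, β.assoc, sub_self]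
      · change ev β _ = 0
        simp only [map_sub, map_sum, map_mul, ev_xm, ev_xe, β.one]
        split_ifs <;> simp
    exact fun x hx => this hx)

@[simp] lemma lift_mk (β : SC n C) (x : Po.{u} n) : lift β (E.mk n x) = ev β x := rfl

lemma univ_map_lift (β : SC n C) : (univ n).map (lift β) = β := by
  apply SC.ext
  · funext i j k
    exact ev_xm β i j k
  · funext i
    exact ev_xe β i

lemma hom_ext {f g : E.{u} n →+* C} (h : (univ n).map f = (univ n).map g) : f = g := by
  have h1 : f.comp (E.mk n) = g.comp (E.mk n) := by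
    apply MvPolynomial.ringHom_ext'
    · exact ZZ.hom_ext _ _
    · rintro (⟨i, j, k⟩ | i)
      · exact congrFun (congrFun (congrFun (congrArg SC.m h) i) j) k
      · exact congrFun (congrArg SC.e h) i
  refine RingHom.ext fun x => ?_
  obtain ⟨x, rfl⟩ := E.mk_surjective n x
  exact DFunLike.congr_fun h1 x

lemma lift_univ_map (f : E.{u} n →+* C) : lift ((univ n).map f) = f := hom_ext (univ_map_lift _)

instance instFP : Algebra.FinitePresentation ZZ.{u} (E.{u} n) :=
  Algebra.FinitePresentation.quotient (R := ZZ.{u}) (A := Po.{u} n)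
    (IsNoetherian.noetherian (Ideal.span (rels.{u} n)))

end Univ

end SC

end K744
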