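import Groth.Agent.AlgSt.K744.Art.Main
import Groth.Agent.AlgSp.K628.Artin.SmLoc

/-!
# The smooth locus (input `SmLocus`), from `K628.SmLoc`
-/

set_option autoImplicit false
set_option linter.unusedVariables false
set_option backward.isDefEq.respectTransparency false
set_option backward.isDefEq.respectTransparency.types false

universe w v u

open CategoryTheory CategoryTheory.Limits AlgebraicGeometry Opposite AlgSp

namespace K744.ArtV

variable {S : Scheme.{u}} {𝒳 : BasedCategory.{v, w} (Over S)} {U : Over S} {x : FibCat.overCat U ⥤ᵇ 𝒳}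

theorem smLocus (hx1 : AlgSt.RepByAlgSpWith (LocP @Flat) x)
    (hx2 : AlgSt.RepByAlgSpWith (LocP @LocallyOfFinitePresentation) x)
    (hx3 : AlgSt.RepByAlgSpWith IsSurjectiveMor x) : SmLocus x := by
  intro V y hy
  obtain ⟨V0, h1, h2⟩ := K628.SmLoc.exists_smooth_open x y hx1 hx2 hx3 hy
  refine ⟨_, _, h1, ?_⟩
  intro F hF e he W j hj a b ha hb t ht
  have i₂ := K735.Top.locP_respectsIso (S := S) @LocallyOfFinitePresentation
  have hπ : LocP @LocallyOfFinitePresentation (AlgSt.spMapOfOver (BasedFunctor.comp e (FibCat.fpFst x y))) := by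
    obtain ⟨F', e', he', hP⟩ := hy U x
    exact (K735.Rep.RepOver.of_rep ⟨F', e', he', hP⟩ e he).2
  have hj' : LocP @LocallyOfFinitePresentation j :=
    K597.locP_mono (fun _ _ _ h => by have : Etale _ := h; infer_instance)
      (K597.locP_of_repWith K597.etLoc_etale.precomp hj)
  have hbl : LocallyOfFinitePresentation b.left := by
    have h3 := K734.Rep.nice_lfp.comp (AlgSp.IsAlgSpace.yon_obj W) hF (AlgSp.IsAlgSpace.yon_obj U) _ _ hj' hπ
    rw [← hb] at h3
    exact (K742.NiceP.yon_iff K742.nice_lfp b).1 h3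
  have := h2 F e he W j hj a b ha hb t ht
  exact ⟨⟨_, this⟩, rfl⟩

end K744.ArtV
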