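import Groth.Agent.AlgSt.K734.Boot
import Groth.Agent.AlgSt.K737.LocLift
import Groth.Agent.Stk.K751.Loc
import Groth.Agent.AlgSp.K598.Site
import Groth.Agent.S10104

/-!
# Stacks in setoids with a flat cover by an algebraic space, in all universes

* `small_isoPsh`: isomorphism classes of objects over a scheme form a small set;
* `repByAlgSp_of_cover`: the stack is representable by an algebraic space.
-/

set_option autoImplicit false
set_option linter.unusedVariables false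
set_option backward.isDefEq.respectTransparency false
set_option backward.isDefEq.respectTransparency.types false

universe w' v' w v u

open CategoryTheory CategoryTheory.Limits Opposite AlgebraicGeometry AlgSp

namespace K744.ArtV

variable {S : Scheme.{u}} {𝒱 : BasedCategory.{v, w} (Over S)}

/-- the property of flat, locally finitely presented morphisms -/
abbrev FLfp : MorphismProperty Scheme.{u} := @Flat ⊓ @LocallyOfFinitePresentation

open K735.Fib K735.Fp in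
/-- Gluing of an isomorphism in a stack in setoids. -/
theorem exists_vert_of_local (hp : Stk.IsPrestack (J S) 𝒱) (hs : FibCat.IsFibSetoid 𝒱.p) {T : Over S}
    {ξ ξ' : 𝒱.obj} (hξ : 𝒱.p.obj ξ = T) (hξ' : 𝒱.p.obj ξ' = T) {A : Over S} (a : A ⟶ T) (ha : FLfp a.left)
    (ha' : Surjective a.left) {ζ : 𝒱.obj} (m : ζ ⟶ ξ) (m' : ζ ⟶ ξ') (hm : 𝒱.p.IsHomLift a m)
    (hm' : 𝒱.p.IsHomLift a m') : ∃ e : ξ ≅ ξ', K734.Fib.IsVert 𝒱 e.hom := by
  subst hξ
  have hζ : 𝒱.p.obj ζ = A := IsHomLift.domain_eq 𝒱.p a m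
  subst hζ
  have e1 : 𝒱.p.map m = a := (IsHomLift.eq_of_isHomLift 𝒱.p a m).symm
  have e2 : 𝒱.p.map m' = a ≫ eqToHom hξ'.symm := by
    have := IsHomLift.fac' 𝒱.p a m'
    simpa using this
  have : Flat a.left := ha.1
  have : LocallyOfFinitePresentation a.left := ha.2
  let R : Sieve (𝒱.p.obj ξ) := Sieve.generate (Presieve.singleton a)
  have hR : R ∈ J S (𝒱.p.obj ξ) := K598.Site.mem_J_of_single a (Sieve.le_generate _ _ _ ⟨⟩)
  have hG := K751.Test.glueFrom_of_isPrestack hp ξ R hR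
  have key : ∀ ⦃z : 𝒱.obj⦄ (b : z ⟶ ξ), R (𝒱.p.map b) → ∃ c : z ⟶ ξ', 𝒱.p.map c = 𝒱.p.map b ≫ eqToHom hξ'.symm := by
    rintro z b ⟨A', g, _, ⟨⟩, hg⟩
    obtain ⟨d, hd, -⟩ := exists_hom hs.1 m b g (by rw [e1, hg])
    exact ⟨d ≫ m', by rw [Functor.map_comp, hd, e2, ← hg, Category.assoc]⟩
  choose c hc using key
  obtain ⟨ψ, ⟨hψ, -⟩, -⟩ := hG (eqToHom hξ'.symm) c (fun z b hb => hc b hb) (fun z' z b a' h1 h2 =>
    K735.Setoid.hom_ext_of_isFibSetoid hs _ _ (by rw [hc, Functor.map_comp, Functor.map_comp, hc, Category.assoc]))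
  have hv : Vert 𝒱.p ψ := vert_of_map_eq hξ'.symm hψ
  have hi := hv.isIso hs.1
  exact ⟨@asIso _ _ _ _ ψ hi, K734.Fib.isVert_iff.2 ⟨hξ'.symm, hψ⟩⟩

open K735.Fib K735.Fp in
/-- Isomorphism classes of objects over a scheme form a small set. -/
theorem small_isoPsh (hp : Stk.IsPrestack (J S) 𝒱) (hs : FibCat.IsFibSetoid 𝒱.p) {E : Over S}
    (e : FibCat.overCat E ⥤ᵇ 𝒱) (h1 : AlgSt.RepByAlgSpWith (AlgSp.LocP FLfp) e)
    (h2 : AlgSt.RepByAlgSpWith AlgSp.IsSurjectiveMor e) (T : Over S) :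
    Small.{u + 1} ((K734.Fib.isoPsh hp.1).obj (op T)) := by
  have key : ∀ s : (K734.Fib.isoPsh hp.1).obj (op T), ∃ r : Σ A : Over S, (A ⟶ T) × (A ⟶ E),
      FLfp r.2.1.left ∧ Surjective r.2.1.left ∧ ∀ (ξ : 𝒱.obj) (hξ : 𝒱.p.obj ξ = T),
        K734.Fib.cls hp.1 ξ hξ = s → ∃ m : e.obj (Over.mk r.2.2) ⟶ ξ, 𝒱.p.IsHomLift r.2.1 m := by
    intro s
    obtain ⟨ξ, hξ, rfl⟩ := K734.Fib.cls_surj hp.1 s
    obtain ⟨A, a, b, ha, ha', ε, hε⟩ := K737.LocLift.exists_lift (yonF hp.1 ξ hξ) e h1 h2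
    refine ⟨⟨A, a, b⟩, ha, ha', fun ξ' hξ' h => ?_⟩
    obtain ⟨i, hi⟩ := (K734.Fib.cls_eq_iff hp.1 hξ' hξ).1 h
    subst hξ
    have hb : 𝒱.p.map ((yonF hp.1 ξ rfl).map (toId (Over.mk a))) = _ := map_map _ _
    have hv := (vert_yonFIso hp.1 ξ rfl).map_eq
    have hε' : Vert 𝒱.p ε.inv := Vert.iso_inv hε
    have hi' := (K734.Fib.isVert_iff.1 hi.inv)
    obtain ⟨q1, q2⟩ := hi'
    refine ⟨ε.inv ≫ (yonF hp.1 ξ rfl).map (toId (Over.mk a)) ≫ (yonFIso hp.1 ξ rfl).hom ≫ i.inv, ?_⟩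
    refine IsHomLift.of_fac' _ _ _ (e.w_obj (Over.mk b)) hξ' ?_
    rw [Functor.map_comp, Functor.map_comp, Functor.map_comp, hε'.map_eq, hb, hv, q2]
    simp
    rfl
  choose r hr1 hr2 hr3 using key
  refine small_of_injective (f := r) fun s s' h => ?_
  obtain ⟨ξ, hξ, hs1⟩ := K734.Fib.cls_surj hp.1 s
  obtain ⟨ξ', hξ', hs2⟩ := K734.Fib.cls_surj hp.1 s'
  obtain ⟨m, hm⟩ := hr3 s ξ hξ hs1
  obtain ⟨m', hm'⟩ : ∃ m : e.obj (Over.mk (r s).2.2) ⟶ ξ', 𝒱.p.IsHomLift (r s).2.1 m := by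
    rw [h]
    exact hr3 s' ξ' hξ' hs2
  rw [← hs1, ← hs2, K734.Fib.cls_eq_iff]
  exact exists_vert_of_local hp hs hξ hξ' _ (hr1 s) (hr2 s) m m' hm hm'

section Shrink

universe u₀ v₀

variable {C : Type u₀} [Category.{v₀} C] (P : Cᵒᵖ ⥤ Type w) (hP : ∀ T, Small.{w'} (P.obj T))

/-- A presheaf with small values, in a smaller universe. -/
noncomputable def shrinkPsh : Cᵒᵖ ⥤ Type w' where
  obj T := have := hP T; Shrink.{w'} (P.obj T)
  map {T T'} f := ↾fun s => have := hP T; have := hP T'; equivShrink.{w'} (P.obj T') (P.map f ((equivShrink.{w'} (P.obj T)).symm s))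
  map_id T := by
    ext s
    simp
  map_comp f g := by
    ext s
    simp

/-- The comparison functor. -/
noncomputable def toShrink : Stk.ofPsh P ⥤ᵇ Stk.ofPsh (shrinkPsh P hP) where
  toFunctor :=
    { obj := fun a => ⟨a.base, have := hP (op a.base); equivShrink.{w'} (P.obj (op a.base)) a.sec⟩
      map := fun {a b} f => ⟨f.hom, by
        have := hP (op a.base)
        have := hP (op b.base)
        change equivShrink.{w'} (P.obj (op a.base)) (P.map f.hom.op ((equivShrink.{w'} (P.obj (op b.base))).symm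
          (equivShrink.{w'} (P.obj (op b.base)) b.sec))) = _
        rw [Equiv.symm_apply_apply, f.map_sec]⟩ }
  w := rfl

theorem isEquivOver_toShrink : FibCat.IsEquivOver (toShrink P hP) := by
  refine K735.Fib.isEquivOver_of ?_ ?_ ?_
  · intro a b φ ψ h
    exact Stk.EltObj.hom_ext (congrArg (fun k => k.hom) h)
  · intro a b φ
    refine ⟨⟨φ.hom, ?_⟩, Stk.EltObj.hom_ext rfl⟩
    have := hP (op a.base)
    have := hP (op b.base)
    have h1 : equivShrink.{w'} (P.obj (op a.base)) (P.map φ.hom.op ((equivShrink.{w'} (P.obj (op b.base))).symm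
          (equivShrink.{w'} (P.obj (op b.base)) b.sec))) = equivShrink.{w'} (P.obj (op a.base)) a.sec := φ.map_sec
    rw [Equiv.symm_apply_apply] at h1
    exact (equivShrink.{w'} (P.obj (op a.base))).injective h1
  · rintro ⟨T, s⟩
    have := hP (op T)
    have heq : (toShrink P hP).obj ⟨T, (equivShrink.{w'} (P.obj (op T))).symm s⟩ = ⟨T, s⟩ := by
      change (⟨T, equivShrink.{w'} (P.obj (op T)) ((equivShrink.{w'} (P.obj (op T))).symm s)⟩ :
        Stk.EltObj (shrinkPsh P hP)) = ⟨T, s⟩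
      rw [Equiv.apply_symm_apply]
    exact ⟨_, eqToIso heq, K735.Fib.vert_eqToHom heq⟩

end Shrink

open K734.Fib K734.Rep in
/-- A stack in setoids with small sets of isomorphism classes is the category of a sheaf. -/
theorem exists_sheaf (h : Stk.IsStack (J S) 𝒱) (hs : FibCat.IsFibSetoid 𝒱.p)
    (hsm : ∀ T : Over S, Small.{u + 1} ((isoPsh h.1).obj (op T))) :
    ∃ (F : Sp S) (Θ : 𝒱 ⥤ᵇ AlgSt.ofSp F), FibCat.IsEquivOver Θ := by
  have he := isEquivOver_comp (isEquivOver_toPsh h.1 hs) (isEquivOver_toShrink.{u + 1} (isoPsh h.1) (fun T => hsm T.unop))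
  have hsh : Presheaf.IsSheaf (AlgSp.J S) (shrinkPsh.{u + 1} (isoPsh h.1) (fun T => hsm T.unop)) := by
    rw [isSheaf_iff_isSheaf_of_type]
    exact (Groth.Agent.S12796.result (QuotSh.J Scheme.fppfPrecoverage S) (shrinkPsh.{u + 1} (isoPsh h.1)
      (fun T => hsm T.unop))).1 ((K751.Inv.isStack_iff_of_isEquivOver he).1 h)
  exact ⟨⟨_, hsh⟩, _, he⟩

open K734.Fib K734.Rep in
/-- **A stack in setoids with a flat, locally finitely presented, surjective cover by an algebraic space is an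
algebraic space**, in all universes. -/
theorem repByAlgSp_of_cover (h : Stk.IsStack (J S) 𝒱) (hs : FibCat.IsFibSetoid 𝒱.p) {𝒰 : BasedCategory.{v', w'} (Over S)}
    (hU : AlgSt.RepByAlgSp 𝒰) (f : 𝒰 ⥤ᵇ 𝒱) (h1 : AlgSt.RepByAlgSpWith AlgSp.IsSurjectiveMor f)
    (h2 : AlgSt.RepByAlgSpWith (AlgSp.LocP @Flat) f)
    (h3 : AlgSt.RepByAlgSpWith (AlgSp.LocP @LocallyOfFinitePresentation) f) : AlgSt.RepByAlgSp 𝒱 := by
  obtain ⟨M, a, ha⟩ := hU
  have k1 : AlgSt.RepByAlgSpWith AlgSp.IsSurjectiveMor (BasedFunctor.comp a f) := (repByAlgSpWith_precomp_iff ha f).2 h1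
  have k2 : AlgSt.RepByAlgSpWith (AlgSp.LocP @Flat) (BasedFunctor.comp a f) := (repByAlgSpWith_precomp_iff ha f).2 h2
  have k3 : AlgSt.RepByAlgSpWith (AlgSp.LocP @LocallyOfFinitePresentation) (BasedFunctor.comp a f) :=
    (repByAlgSpWith_precomp_iff ha f).2 h3
  -- a flat chart by a scheme
  have hM : AlgSt.RepByAlgSp (AlgSt.ofSp M.obj) := ⟨M, BasedFunctor.id _, isEquivOver_refl _⟩
  obtain ⟨E, ε, hε⟩ := exists_scheme_cover hM
  have hMf : FibCat.IsFibGrpd (AlgSt.ofSp M.obj).p := Stk.isFibGrpd_ofPsh _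
  have l1 : AlgSt.RepByAlgSpWith AlgSp.IsSurjectiveMor (BasedFunctor.comp ε (BasedFunctor.comp a f)) :=
    nice_surj.repByAlgSpWith_comp (isFibGrpd_overCat E) hMf (hε _ nice_surj surj_of_repWith) k1
  have hfl : ∀ ⦃X Y : Sp S⦄ (p : X ⟶ Y), IsAlgSpace Y → RepWith @Etale p → LocP @Flat p :=
    fun X Y p hY hp => K597.locP_mono (fun _ _ q (_ : Smooth q) => (inferInstance : Flat q))
      (locP_smooth_of_isEtaleMor (isEtaleMor_of_repWith hY hp))
  have hlf : ∀ ⦃X Y : Sp S⦄ (p : X ⟶ Y), IsAlgSpace Y → RepWith @Etale p → LocP @LocallyOfFinitePresentation p :=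
    fun X Y p hY hp => K597.locP_mono (fun _ _ q (_ : Smooth q) => (inferInstance : LocallyOfFinitePresentation q))
      (locP_smooth_of_isEtaleMor (isEtaleMor_of_repWith hY hp))
  have l2 : AlgSt.RepByAlgSpWith (AlgSp.LocP @Flat) (BasedFunctor.comp ε (BasedFunctor.comp a f)) :=
    nice_flat.repByAlgSpWith_comp (isFibGrpd_overCat E) hMf (hε _ nice_flat (fun X Y _ hY p hp _ => hfl p hY hp)) k2
  have l3 : AlgSt.RepByAlgSpWith (AlgSp.LocP @LocallyOfFinitePresentation)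
      (BasedFunctor.comp ε (BasedFunctor.comp a f)) :=
    nice_lfp.repByAlgSpWith_comp (isFibGrpd_overCat E) hMf (hε _ nice_lfp (fun X Y _ hY p hp _ => hlf p hY hp)) k3
  have l4 : AlgSt.RepByAlgSpWith (AlgSp.LocP FLfp) (BasedFunctor.comp ε (BasedFunctor.comp a f)) :=
    K740.SpIso.repByAlgSpWith_imp (K740.SpIso.repByAlgSpWith_inf l2 l3) (fun _ _ _ hq => K597.locP_inf_iff.2 hq)
  have hp := K751.Test.isPrestack_of_isStack h
  obtain ⟨F, Θ, hΘ⟩ := exists_sheaf h hs (small_isoPsh hp hs _ l4 l1)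
  let Φ : AlgSt.ofSp M.obj ⥤ᵇ AlgSt.ofSp F := BasedFunctor.comp a (BasedFunctor.comp f Θ)
  obtain ⟨p, ⟨i⟩⟩ := exists_ofSpMap Φ
  have key : ∀ P : MorphismProperty (AlgSp.Sp S), AlgSt.RepByAlgSpWith P f →
      AlgSt.RepByAlgSpWith P (AlgSt.ofSpMap p) := fun P hP => by
    rw [← repByAlgSpWith_iff_of_iso i]
    change AlgSt.RepByAlgSpWith P (BasedFunctor.comp a (BasedFunctor.comp f Θ))
    rw [repByAlgSpWith_precomp_iff ha, repByAlgSpWith_postcomp_iff _ hΘ]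
    exact hP
  have h4 := K740.SpIso.repByAlgSpWith_inf (K740.SpIso.repByAlgSpWith_inf (key _ h1) (key _ h2)) (key _ h3)
  have hF : AlgSp.IsAlgSpace F := Groth.Agent.S10104.result S F M p ((repBySpWith_iff _ p.hom).2 h4)
  obtain ⟨k, hk, -, -⟩ := exists_inverse hΘ
  exact ⟨⟨F, hF⟩, k, hk⟩

end K744.ArtV
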