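import Groth.Agent.AlgSt.K744.Art.SmL

/-!
# Flat charts by algebraic spaces and algebraic stacks
-/

set_option autoImplicit false
set_option linter.unusedVariables false
set_option backward.isDefEq.respectTransparency false
set_option backward.isDefEq.respectTransparency.types false

universe w v v₂ u₂ u

open CategoryTheory CategoryTheory.Limits AlgebraicGeometry Opposite AlgSp

namespace K744.Art

open K734.Fib K734.Rep

variable {S : Scheme.{u}} {𝒳 : BasedCategory.{v, w} (Over S)}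

/-- The conjunction. -/
theorem flat_lfp_of {𝒰 : BasedCategory.{v₂, u₂} (Over S)} {x : 𝒰 ⥤ᵇ 𝒳}
    (h1 : AlgSt.RepByAlgSpWith (LocP @Flat) x) (h2 : AlgSt.RepByAlgSpWith (LocP @LocallyOfFinitePresentation) x) :
    AlgSt.RepByAlgSpWith (LocP (@Flat ⊓ @LocallyOfFinitePresentation)) x := by
  have := K735.Top.locP_respectsIso (S := S) @Flat
  have := K735.Top.locP_respectsIso (S := S) @LocallyOfFinitePresentation
  exact K740.SpIso.repByAlgSpWith_imp (K740.SpIso.repByAlgSpWith_inf h1 h2) fun _ _ _ h => K597.locP_inf_iff.2 h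

theorem flat_of {𝒰 : BasedCategory.{v₂, u₂} (Over S)} {x : 𝒰 ⥤ᵇ 𝒳}
    (hx : AlgSt.RepByAlgSpWith (LocP (@Flat ⊓ @LocallyOfFinitePresentation)) x) :
    AlgSt.RepByAlgSpWith (LocP @Flat) x :=
  K740.SpIso.repByAlgSpWith_imp hx fun _ _ _ h => (K597.locP_inf_iff.1 h).1

theorem lfp_of {𝒰 : BasedCategory.{v₂, u₂} (Over S)} {x : 𝒰 ⥤ᵇ 𝒳}
    (hx : AlgSt.RepByAlgSpWith (LocP (@Flat ⊓ @LocallyOfFinitePresentation)) x) :
    AlgSt.RepByAlgSpWith (LocP @LocallyOfFinitePresentation) x :=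
  K740.SpIso.repByAlgSpWith_imp hx fun _ _ _ h => (K597.locP_inf_iff.1 h).2

/-- A flat covering by a stack with a smooth atlas gives a flat chart by a scheme. -/
theorem exists_flat_chart {𝒰 : AlgSt.Cat S} (h𝒰 : FibCat.IsFibGrpd 𝒰.p) (hat : AlgSt.HasAtlas (LocP @Smooth) 𝒰)
    (f : 𝒰 ⥤ᵇ 𝒳) (h1 : AlgSt.RepByAlgSpWith (LocP @Flat) f)
    (h2 : AlgSt.RepByAlgSpWith (LocP @LocallyOfFinitePresentation) f) (h3 : AlgSt.RepByAlgSpWith IsSurjectiveMor f) :
    ∃ (U : Over S) (x : FibCat.overCat U ⥤ᵇ 𝒳),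
      AlgSt.RepByAlgSpWith (LocP (@Flat ⊓ @LocallyOfFinitePresentation)) x ∧ AlgSt.RepByAlgSpWith IsSurjectiveMor x := by
  obtain ⟨U, u, hu, hu'⟩ := hat
  have k1 : AlgSt.RepByAlgSpWith (LocP @Flat) u :=
    K740.SpIso.repByAlgSpWith_imp hu fun _ _ _ h => K597.locP_mono (fun _ _ _ h' => by
      have : Smooth _ := h'
      infer_instance) h
  have k2 : AlgSt.RepByAlgSpWith (LocP @LocallyOfFinitePresentation) u :=
    K740.SpIso.repByAlgSpWith_imp hu fun _ _ _ h => K597.locP_mono (fun _ _ _ h' => by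
      have : Smooth _ := h'
      infer_instance) h
  refine ⟨U, BasedFunctor.comp u f, flat_lfp_of ?_ ?_, ?_⟩
  · exact nice_flat.repByAlgSpWith_comp (isFibGrpd_overCat U) h𝒰 k1 h1
  · exact nice_lfp.repByAlgSpWith_comp (isFibGrpd_overCat U) h𝒰 k2 h2
  · exact nice_surj.repByAlgSpWith_comp (isFibGrpd_overCat U) h𝒰 hu' h3

/-- A flat covering by a category representable by an algebraic space gives a flat chart by a scheme. -/
theorem exists_flat_chart_of_rep {𝒰 : BasedCategory.{v₂, u₂} (Over S)} (hU : AlgSt.RepByAlgSp 𝒰)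
    (f : 𝒰 ⥤ᵇ 𝒳) (h1 : AlgSt.RepByAlgSpWith (LocP @Flat) f)
    (h2 : AlgSt.RepByAlgSpWith (LocP @LocallyOfFinitePresentation) f) (h3 : AlgSt.RepByAlgSpWith IsSurjectiveMor f) :
    ∃ (U : Over S) (x : FibCat.overCat U ⥤ᵇ 𝒳),
      AlgSt.RepByAlgSpWith (LocP (@Flat ⊓ @LocallyOfFinitePresentation)) x ∧ AlgSt.RepByAlgSpWith IsSurjectiveMor x := by
  obtain ⟨F, e, he⟩ := hU
  obtain ⟨U, p, hp, hp'⟩ := F.property.atlas
  have hpe : IsEtaleMor p := isEtaleMor_of_repWith F.property hp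
  have hps := surj_of_repWith (IsAlgSpace.yon_obj U) F.property p hp hp'
  have q : LocP @Smooth p := locP_smooth_of_isEtaleMor hpe
  have q1 : LocP @Flat p := K597.locP_mono (fun _ _ _ h' => by
      have : Smooth _ := h'
      infer_instance) q
  have q2 : LocP @LocallyOfFinitePresentation p := K597.locP_mono (fun _ _ _ h' => by
      have : Smooth _ := h'
      infer_instance) q
  have g1 := (repByAlgSpWith_precomp_iff he f).2 h1
  have g2 := (repByAlgSpWith_precomp_iff he f).2 h2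
  have g3 := (repByAlgSpWith_precomp_iff he f).2 h3
  have hy := IsAlgSpace.yon_obj U
  refine ⟨U, BasedFunctor.comp (AlgSt.ofOverCat U) (BasedFunctor.comp (AlgSt.ofSpMap p) (BasedFunctor.comp e f)),
    flat_lfp_of ?_ ?_, ?_⟩
  · rw [repByAlgSpWith_precomp_iff (K735.Rep.isEquivOver_ofOverCat U)]
    exact nice_flat.repByAlgSpWith_comp (isFibGrpd_ofPsh' _) (isFibGrpd_ofPsh' _)
      (nice_flat.repByAlgSpWith_ofSpMap hy F.property q1) g1
  · rw [repByAlgSpWith_precomp_iff (K735.Rep.isEquivOver_ofOverCat U)]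
    exact nice_lfp.repByAlgSpWith_comp (isFibGrpd_ofPsh' _) (isFibGrpd_ofPsh' _)
      (nice_lfp.repByAlgSpWith_ofSpMap hy F.property q2) g2
  · rw [repByAlgSpWith_precomp_iff (K735.Rep.isEquivOver_ofOverCat U)]
    exact nice_surj.repByAlgSpWith_comp (isFibGrpd_ofPsh' _) (isFibGrpd_ofPsh' _)
      (nice_surj.repByAlgSpWith_ofSpMap hy F.property hps) g3

end K744.Art
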