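import Groth.Agent.AlgSt.K740.StackOf

/-!
# The source of a functor representable by algebraic spaces is a stack, in all universes
-/

set_option autoImplicit false
set_option backward.isDefEq.respectTransparency false
set_option backward.isDefEq.respectTransparency.types false

universe v₄ u₄ v₃ u₃ v₂ u₂ v u

open CategoryTheory CategoryTheory.Limits AlgebraicGeometry Opposite

namespace K744.ArtV

variable {S : Scheme.{u}} {𝒳 : BasedCategory.{v₂, u₂} (Over S)} {𝒴 : BasedCategory.{v₃, u₃} (Over S)}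

theorem isStack_slice (h𝒳 : FibCat.IsFibGrpd 𝒳.p) (h𝒴 : FibCat.IsFibGrpd 𝒴.p) (j : 𝒳 ⥤ᵇ 𝒴)
    {U : Over S} (y : FibCat.overCat U ⥤ᵇ 𝒴)
    (h : Stk.IsStack (QuotSh.J Scheme.fppfPrecoverage S) (FibCat.fp y j)) :
    Stk.IsStack ((QuotSh.J Scheme.fppfPrecoverage S).over U) (K751.Slice.slB j y) := by
  have h2 := K751.Over.isStack_over h (K751.Test.isPrestack_of_isStack (K744.AlgOver.isAlgStack_overCat U).isStack)
    (FibCat.fpFst y j) (K160.FpGrpd.isFibGrpd_fpFst h𝒳 h𝒴 y j)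
  have h3 : (FibCat.overCat U).p.restrictedTopology (QuotSh.J Scheme.fppfPrecoverage S) =
      (QuotSh.J Scheme.fppfPrecoverage S).over U := K740.StackOf.restrictedTopology_forget _ U
  rw [h3] at h2
  exact h2

/-- S12767 in all universes. -/
theorem isStack_of_rep1 (h𝒳 : FibCat.IsFibGrpd 𝒳.p)
    (h𝒴 : Stk.IsStack (QuotSh.J Scheme.fppfPrecoverage S) 𝒴) (j : 𝒳 ⥤ᵇ 𝒴) (hj : AlgSt.RepByAlgSp1 j) :
    Stk.IsStack (QuotSh.J Scheme.fppfPrecoverage S) 𝒳 := by
  have hf : j.toFunctor.Faithful := K734.Rep.faithful_of_repByAlgSp1 h𝒳 h𝒴.1 j hj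
  refine K751.Slice.isStack_of_slB h𝒳 h𝒴 j fun U y => ?_
  obtain ⟨F, e, he⟩ := hj U y
  exact isStack_slice h𝒳 h𝒴.1 j y ((K751.Inv.isStack_iff_of_isEquivOver he).1 (K740.SpDM.isStack_ofSp F.obj))

end K744.ArtV
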