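import Groth.Agent.AlgSt.K744.Art.WPt

/-!
# The category `V x c`

For `x : C/U ⟶ 𝒳` and `c : Z ⟶ B` in `C`: objects are the triples of an object `pt` of `𝒳` over `T`, a morphism `b : T ⟶ B`
and a point `Z ×_B T ⟶ U` of the chart `x` over `pt` (written as a compatible family indexed by all `T' ⟶ T`, `T' ⟶ Z`
equalised in `B`).
-/

set_option autoImplicit false
set_option backward.isDefEq.respectTransparency false
set_option backward.isDefEq.respectTransparency.types false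

universe v₃ u₃ v₂ u₂ v u

open CategoryTheory CategoryTheory.Limits

namespace K744.ArtV

open K735.Fib K735.Fp

variable {C : Type u} [Category.{v} C] {𝒳 : BasedCategory.{v₂, u₂} C} {U : C} (x : FibCat.overCat U ⥤ᵇ 𝒳)
  {Z B : C} (c : Z ⟶ B)

/-- Objects of `V x c`. -/
structure VObj where
  pt : 𝒳.obj
  b : 𝒳.p.obj pt ⟶ B
  σ : ∀ {T : C} (a : T ⟶ 𝒳.p.obj pt) (k : T ⟶ Z), a ≫ b = k ≫ c → WPt x pt T
  σ_base : ∀ {T : C} (a : T ⟶ 𝒳.p.obj pt) (k : T ⟶ Z) (h : a ≫ b = k ≫ c), (σ a k h).base = a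
  σ_res : ∀ {T T' : C} (g : T' ⟶ T) (a : T ⟶ 𝒳.p.obj pt) (k : T ⟶ Z) (h : a ≫ b = k ≫ c)
    (h' : (g ≫ a) ≫ b = (g ≫ k) ≫ c), σ (g ≫ a) (g ≫ k) h' = (σ a k h).res g

variable {x c}

namespace VObj

theorem σ_congr (ξ : VObj x c) {T : C} {a a' : T ⟶ 𝒳.p.obj ξ.pt} {k k' : T ⟶ Z} (ha : a = a') (hk : k = k')
    (h : a ≫ ξ.b = k ≫ c) (h' : a' ≫ ξ.b = k' ≫ c) : ξ.σ a k h = ξ.σ a' k' h' := by
  subst ha hk
  rfl

/-- Morphisms of `V x c`: the morphisms of `𝒳` compatible with the morphisms to `B` and the points. -/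
@[ext]
structure Hom (ξ η : VObj x c) where
  hom : ξ.pt ⟶ η.pt
  b_eq : 𝒳.p.map hom ≫ η.b = ξ.b
  σ_eq : ∀ {T : C} (a : T ⟶ 𝒳.p.obj ξ.pt) (k : T ⟶ Z) (h : a ≫ ξ.b = k ≫ c)
    (h' : (a ≫ 𝒳.p.map hom) ≫ η.b = k ≫ c), (ξ.σ a k h).push hom = η.σ (a ≫ 𝒳.p.map hom) k h'

theorem Hom.aux {ξ η : VObj x c} (f : Hom ξ η) {T : C} (a : T ⟶ 𝒳.p.obj ξ.pt) (k : T ⟶ Z) (h : a ≫ ξ.b = k ≫ c) :
    (a ≫ 𝒳.p.map f.hom) ≫ η.b = k ≫ c := by
  rw [Category.assoc, f.b_eq, h]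

instance : Category (VObj x c) where
  Hom := Hom
  id ξ := ⟨𝟙 ξ.pt, by simp, fun {T} a k h h' => by
    rw [WPt.push_id]
    exact ξ.σ_congr (by simp) rfl _ _⟩
  comp {ξ η ζ} f g := ⟨f.hom ≫ g.hom, by rw [Functor.map_comp, Category.assoc, g.b_eq, f.b_eq], fun {T} a k h h' => by
    rw [← WPt.push_push, f.σ_eq a k h (f.aux a k h), g.σ_eq _ k (f.aux a k h) (g.aux _ k (f.aux a k h))]
    exact ζ.σ_congr (by simp) rfl _ _⟩
  id_comp f := Hom.ext (Category.id_comp _)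
  comp_id f := Hom.ext (Category.comp_id _)
  assoc f g h := Hom.ext (Category.assoc _ _ _)

@[ext] theorem hom_ext {ξ η : VObj x c} {f g : ξ ⟶ η} (h : f.hom = g.hom) : f = g := Hom.ext h

@[simp] theorem id_hom (ξ : VObj x c) : (𝟙 ξ : ξ ⟶ ξ).hom = 𝟙 ξ.pt := rfl

@[simp] theorem comp_hom {ξ η ζ : VObj x c} (f : ξ ⟶ η) (g : η ⟶ ζ) : (f ≫ g).hom = f.hom ≫ g.hom := rfl

variable (x c) in
/-- The functor to `𝒳`. -/
def forget : VObj x c ⥤ 𝒳.obj where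
  obj ξ := ξ.pt
  map f := f.hom

end VObj

variable (x c) in
/-- The category `V x c` over the base. -/
abbrev V : BasedCategory.{v₂, max u v u₂ v₂} C where
  obj := VObj x c
  p := VObj.forget x c ⋙ 𝒳.p

variable (x c) in
/-- The functor `V x c ⟶ 𝒳` over the base. -/
def toX : V x c ⥤ᵇ 𝒳 where
  toFunctor := VObj.forget x c
  w := rfl

/-- The lift of an object of `V x c` along a morphism of `𝒳`. -/
noncomputable def liftObj (h𝒳 : FibCat.IsFibGrpd 𝒳.p) (η : VObj x c) {y : 𝒳.obj} (θ : y ⟶ η.pt) : VObj x c where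
  pt := y
  b := 𝒳.p.map θ ≫ η.b
  σ {T} a k h := WPt.pull h𝒳 (η.σ (a ≫ 𝒳.p.map θ) k (by rw [Category.assoc, h])) θ a (by rw [η.σ_base])
  σ_base {T} a k h := WPt.pull_base h𝒳 _ _ _ _
  σ_res {T T'} g a k h h' := by
    refine WPt.eq_of_push h𝒳 θ ?_ ?_
    · rw [WPt.pull_base, WPt.base_res, WPt.pull_base]
    · rw [WPt.pull_push, ← WPt.push_res, WPt.pull_push, ← η.σ_res g _ k _ (by
        rw [Category.assoc, Category.assoc, h, Category.assoc])]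
      exact η.σ_congr (by simp) rfl _ _

/-- The lift, as a morphism. -/
noncomputable def liftHom (h𝒳 : FibCat.IsFibGrpd 𝒳.p) (η : VObj x c) {y : 𝒳.obj} (θ : y ⟶ η.pt) :
    liftObj h𝒳 η θ ⟶ η where
  hom := θ
  b_eq := rfl
  σ_eq {T} a k h h' := WPt.pull_push h𝒳 (η.σ (a ≫ 𝒳.p.map θ) k h') θ a (by rw [η.σ_base])

/-- Factorisation in `V x c`. -/
def facHom (h𝒳 : FibCat.IsFibGrpd 𝒳.p) {ξ η ζ : VObj x c} (φ : η ⟶ ξ) (ψ : ζ ⟶ ξ) (χ : ζ.pt ⟶ η.pt)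
    (h : χ ≫ φ.hom = ψ.hom) : ζ ⟶ η where
  hom := χ
  b_eq := by rw [← φ.b_eq, ← ψ.b_eq, ← h]; simp
  σ_eq {T} a k h₁ h₂ := by
    refine WPt.eq_of_push h𝒳 φ.hom ?_ ?_
    · rw [WPt.base_push, ζ.σ_base, η.σ_base]
    · rw [WPt.push_push, h, ψ.σ_eq a k h₁ (ψ.aux a k h₁), φ.σ_eq _ k h₂ (φ.aux _ k h₂)]
      exact ξ.σ_congr (by rw [← h]; simp) rfl _ _

theorem isFibGrpd_V (h𝒳 : FibCat.IsFibGrpd 𝒳.p) : FibCat.IsFibGrpd (V x c).p := by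
  refine isFibGrpd_mk ?_ ?_ ?_
  · intro ξ T f
    obtain ⟨y, θ, e, hθ⟩ := exists_lift h𝒳 f
    exact ⟨liftObj h𝒳 ξ θ, liftHom h𝒳 ξ θ, e, hθ⟩
  · intro ξ η ζ φ ψ g hg
    obtain ⟨χ, h1, h2⟩ := exists_hom h𝒳 φ.hom ψ.hom g hg
    exact ⟨facHom h𝒳 φ ψ χ h2, h1, VObj.hom_ext h2⟩
  · intro ξ η ζ φ χ χ' h1 h2
    exact VObj.hom_ext (hom_ext' h𝒳 φ.hom h1 (congrArg VObj.Hom.hom h2))

theorem toX_faithful : (toX x c).toFunctor.Faithful where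
  map_injective h := VObj.hom_ext h

end K744.ArtV
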