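import Groth.Agent.AlgSt.K744.Art.ResRep
import Groth.Agent.AlgSt.K744.Art.StackRep
import Groth.Agent.AlgSt.K744.Art.Small

/-!
# `V x c` is a stack in setoids
-/

set_option autoImplicit false
set_option linter.unusedVariables false
set_option backward.isDefEq.respectTransparency false
set_option backward.isDefEq.respectTransparency.types false

universe w v u

open CategoryTheory CategoryTheory.Limits AlgebraicGeometry Opposite AlgSp

namespace K744.ArtV

open K735.Fib K735.Fp

variable {S : Scheme.{u}} {𝒳 : BasedCategory.{v, w} (Over S)} {U : Over S} {x : FibCat.overCat U ⥤ᵇ 𝒳}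
  {Z B : Over S} {c : Z ⟶ B}

theorem V_hom_ext (hp : Stk.IsPrestack (J S) 𝒳) [Flat c.left] [LocallyOfFinitePresentation c.left] [Surjective c.left]
    {ξ η : VObj x c} (φ ψ : ξ ⟶ η) (h : 𝒳.p.map φ.hom = 𝒳.p.map ψ.hom) : φ = ψ := by
  apply VObj.hom_ext
  let q : pullback ξ.b c ⟶ 𝒳.p.obj ξ.pt := pullback.fst ξ.b c
  have sq := (IsPullback.of_hasPullback ξ.b c).map (Over.forget S)
  have hq1 : Flat q.left := MorphismProperty.of_isPullback sq.flip (inferInstanceAs (Flat c.left))
  have hq2 : LocallyOfFinitePresentation q.left :=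
    MorphismProperty.of_isPullback sq.flip (inferInstanceAs (LocallyOfFinitePresentation c.left))
  have hq3 : Surjective q.left := MorphismProperty.of_isPullback sq.flip (inferInstanceAs (Surjective c.left))
  let R : Sieve (𝒳.p.obj ξ.pt) := Sieve.generate (Presieve.singleton q)
  have hR : R ∈ J S (𝒳.p.obj ξ.pt) := K598.Site.mem_J_of_single q (Sieve.le_generate _ _ _ ⟨⟩)
  refine K751.Loc.ext_of_cover hp hR h ?_
  rintro z a ⟨A', g, _, ⟨⟩, hg⟩
  have hk : 𝒳.p.map a ≫ ξ.b = (g ≫ pullback.snd ξ.b c) ≫ c := by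
    rw [← hg, Category.assoc, Category.assoc, pullback.condition]
  let ω := ξ.σ (𝒳.p.map a) (g ≫ pullback.snd ξ.b c) hk
  have hω : ω.base = 𝒳.p.map a := ξ.σ_base _ _ _
  have e1 : ω.push φ.hom = ω.push ψ.hom := by
    rw [φ.σ_eq _ _ hk (φ.aux _ _ hk), ψ.σ_eq _ _ hk (ψ.aux _ _ hk)]
    exact η.σ_congr (by rw [h]) rfl _ _
  have e2 : ω.arr ≫ φ.hom = ω.arr ≫ ψ.hom := by
    have := WPt.arr_eq e1 rfl
    rw [map_eqm_rfl, Category.id_comp] at this
    exact this.symm
  obtain ⟨χ, h1, h2⟩ := exists_hom hp.1 ω.arr a (eqToHom (x_w x ω.u).symm) (by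
    rw [WPt.p_arr, hω]
    simp)
  rw [← h2, Category.assoc, Category.assoc, e2]

theorem isFibSetoid_V (hp : Stk.IsPrestack (J S) 𝒳) [Flat c.left] [LocallyOfFinitePresentation c.left]
    [Surjective c.left] : FibCat.IsFibSetoid (V x c).p :=
  K735.Setoid.isFibSetoid_of_hom_ext (isFibGrpd_V hp.1) (fun φ ψ h => V_hom_ext hp φ ψ h)

end K744.ArtV
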