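import Groth.Agent.AlgSt.K735.Fp
import Groth.Prelude.Def_AlgSt2

/-!
# Points of a chart over an object

For `x : C/U ⟶ 𝒳` and an object `y` of `𝒳`: `WPt x y T` is the set of pairs `(u : T ⟶ U, x(u) ⟶ y)`, that is the
`T`-points of the fibre product of `x` with `y`.
-/

set_option autoImplicit false
set_option backward.isDefEq.respectTransparency false
set_option backward.isDefEq.respectTransparency.types false

universe v₃ u₃ v₂ u₂ v u

open CategoryTheory CategoryTheory.Limits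

namespace K744.ArtV

open K735.Fib K735.Fp

variable {C : Type u} [Category.{v} C] {𝒳 : BasedCategory.{v₂, u₂} C} {U : C} (x : FibCat.overCat U ⥤ᵇ 𝒳)

/-- A `T`-point of the chart `x` over the object `y`. -/
structure WPt (y : 𝒳.obj) (T : C) where
  u : T ⟶ U
  arr : x.obj (Over.mk u) ⟶ y

variable {x}

theorem x_w (x : FibCat.overCat U ⥤ᵇ 𝒳) {T : C} (u : T ⟶ U) : 𝒳.p.obj (x.obj (Over.mk u)) = T := x.w_obj (Over.mk u)

/-- the morphism of the slice attached to an equality. -/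
abbrev eqm {T : C} {u u' : T ⟶ U} (h : u = u') : (Over.mk u : Over U) ⟶ Over.mk u' :=
  Over.homMk (𝟙 T) (by simpa using h.symm)

theorem map_eqm_rfl (x : FibCat.overCat U ⥤ᵇ 𝒳) {T : C} (u : T ⟶ U) (h : u = u) : x.map (eqm h) = 𝟙 _ := by
  have : eqm h = 𝟙 (Over.mk u) := Over.OverMorphism.ext rfl
  rw [this]
  exact x.toFunctor.map_id _

theorem map_sq (x : FibCat.overCat U ⥤ᵇ 𝒳) {A B D E : (FibCat.overCat U).obj} {m₁ : A ⟶ B} {m₂ : B ⟶ E}
    {m₃ : A ⟶ D} {m₄ : D ⟶ E} (h : m₁ ≫ m₂ = m₃ ≫ m₄) {y : 𝒳.obj} (a : x.obj E ⟶ y) :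
    x.map m₁ ≫ x.map m₂ ≫ a = x.map m₃ ≫ x.map m₄ ≫ a := by
  rw [← Category.assoc, ← Category.assoc, ← x.toFunctor.map_comp, ← x.toFunctor.map_comp, h]

theorem map_tri (x : FibCat.overCat U ⥤ᵇ 𝒳) {A B E : (FibCat.overCat U).obj} {m₁ : A ⟶ B} {m₂ : B ⟶ E}
    {m₃ : A ⟶ E} (h : m₁ ≫ m₂ = m₃) {y : 𝒳.obj} (a : x.obj E ⟶ y) :
    x.map m₁ ≫ x.map m₂ ≫ a = x.map m₃ ≫ a := by
  rw [← Category.assoc, ← x.toFunctor.map_comp, h]

namespace WPt

variable {y y' y'' : 𝒳.obj} {T T' T'' : C}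

theorem ext' {w w' : WPt x y T} (h : w.u = w'.u) (h' : x.map (eqm h) ≫ w'.arr = w.arr) : w = w' := by
  obtain ⟨u, a⟩ := w
  obtain ⟨u', a'⟩ := w'
  dsimp only at h
  subst h
  rw [map_eqm_rfl, Category.id_comp] at h'
  dsimp only at h'
  rw [h']

theorem arr_eq {w w' : WPt x y T} (h : w = w') (hu : w.u = w'.u) : x.map (eqm hu) ≫ w'.arr = w.arr := by
  subst h
  rw [map_eqm_rfl, Category.id_comp]

/-- The morphism of the base underlying a point. -/
def base (w : WPt x y T) : T ⟶ 𝒳.p.obj y := eqToHom (x_w x w.u).symm ≫ 𝒳.p.map w.arr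

theorem p_arr (w : WPt x y T) : 𝒳.p.map w.arr = eqToHom (x_w x w.u) ≫ w.base := by
  simp [base]

/-- Restriction. -/
def res (g : T' ⟶ T) (w : WPt x y T) : WPt x y T' where
  u := g ≫ w.u
  arr := x.map (Over.homMk g rfl : (Over.mk (g ≫ w.u) : Over U) ⟶ Over.mk w.u) ≫ w.arr

/-- Composition with a morphism of `𝒳`. -/
def push (w : WPt x y T) (θ : y ⟶ y') : WPt x y' T where
  u := w.u
  arr := w.arr ≫ θ

@[simp] theorem res_u (g : T' ⟶ T) (w : WPt x y T) : (w.res g).u = g ≫ w.u := rfl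
@[simp] theorem push_u (w : WPt x y T) (θ : y ⟶ y') : (w.push θ).u = w.u := rfl
@[simp] theorem push_arr (w : WPt x y T) (θ : y ⟶ y') : (w.push θ).arr = w.arr ≫ θ := rfl

theorem p_map_x (x : FibCat.overCat U ⥤ᵇ 𝒳) {a b : (FibCat.overCat U).obj} (m : a ⟶ b) :
    𝒳.p.map (x.map m) = eqToHom (x.w_obj a) ≫ m.left ≫ eqToHom (x.w_obj b).symm := map_map x m

@[simp] theorem base_res (g : T' ⟶ T) (w : WPt x y T) : (w.res g).base = g ≫ w.base := by
  unfold base res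
  simp only [Functor.map_comp, p_map_x]
  simp

@[simp] theorem base_push (w : WPt x y T) (θ : y ⟶ y') : (w.push θ).base = w.base ≫ 𝒳.p.map θ := by
  unfold base push
  simp

theorem res_id (w : WPt x y T) : w.res (𝟙 T) = w := by
  refine ext' (Category.id_comp _) ?_
  rfl

theorem res_res (g : T' ⟶ T) (g' : T'' ⟶ T') (w : WPt x y T) : (w.res g).res g' = w.res (g' ≫ g) := by
  refine ext' (Category.assoc _ _ _).symm ?_
  refine map_sq x (Over.OverMorphism.ext ?_) w.arr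
  simp
  exact Category.id_comp _

theorem push_res (g : T' ⟶ T) (w : WPt x y T) (θ : y ⟶ y') : (w.push θ).res g = (w.res g).push θ := by
  unfold res push
  simp

theorem push_push (w : WPt x y T) (θ : y ⟶ y') (θ' : y' ⟶ y'') : (w.push θ).push θ' = w.push (θ ≫ θ') := by
  unfold push
  simp

theorem push_id (w : WPt x y T) : w.push (𝟙 y) = w := by
  unfold push
  simp

/-- Points are determined by their base and their push along a morphism. -/
theorem eq_of_push (h𝒳 : FibCat.IsFibGrpd 𝒳.p) {w w' : WPt x y T} (θ : y ⟶ y') (h : w.base = w'.base)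
    (h' : w.push θ = w'.push θ) : w = w' := by
  have hu₀ : (w.push θ).u = (w'.push θ).u := congrArg WPt.u h'
  have hu : w.u = w'.u := hu₀
  refine ext' hu (hom_ext' h𝒳 θ ?_ ?_)
  · rw [Functor.map_comp, p_map_x, p_arr, p_arr, h]
    simp
    exact congrArg _ (Category.id_comp _)
  · have := arr_eq h' hu
    rw [Category.assoc]
    exact this

/-- Points lift along morphisms of `𝒳`. -/
theorem exists_pull (h𝒳 : FibCat.IsFibGrpd 𝒳.p) (w : WPt x y' T) (θ : y ⟶ y') (a : T ⟶ 𝒳.p.obj y)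
    (h : a ≫ 𝒳.p.map θ = w.base) : ∃ w' : WPt x y T, w'.base = a ∧ w'.push θ = w := by
  obtain ⟨χ, h1, h2⟩ := exists_hom h𝒳 θ w.arr (eqToHom (x_w x w.u) ≫ a) (by rw [Category.assoc, h, p_arr])
  refine ⟨⟨w.u, χ⟩, ?_, ?_⟩
  · unfold base
    dsimp only
    rw [h1]
    simp
  · unfold push
    dsimp only
    rw [h2]

/-- The unique lift of a point. -/
noncomputable def pull (h𝒳 : FibCat.IsFibGrpd 𝒳.p) (w : WPt x y' T) (θ : y ⟶ y') (a : T ⟶ 𝒳.p.obj y)
    (h : a ≫ 𝒳.p.map θ = w.base) : WPt x y T := (exists_pull h𝒳 w θ a h).choose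

theorem pull_base (h𝒳 : FibCat.IsFibGrpd 𝒳.p) (w : WPt x y' T) (θ : y ⟶ y') (a : T ⟶ 𝒳.p.obj y)
    (h : a ≫ 𝒳.p.map θ = w.base) : (pull h𝒳 w θ a h).base = a := (exists_pull h𝒳 w θ a h).choose_spec.1

theorem pull_push (h𝒳 : FibCat.IsFibGrpd 𝒳.p) (w : WPt x y' T) (θ : y ⟶ y') (a : T ⟶ 𝒳.p.obj y)
    (h : a ≫ 𝒳.p.map θ = w.base) : (pull h𝒳 w θ a h).push θ = w := (exists_pull h𝒳 w θ a h).choose_spec.2

end WPt

end K744.ArtV
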