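import Groth.Agent.AlgSt.K744.Art.RepX
import Groth.Agent.Gerb.K893.Wr8

/-!
# Weil restrictions exist: the hypothesis `WR`
-/

set_option autoImplicit false

universe w v u

open CategoryTheory CategoryTheory.Limits AlgebraicGeometry Opposite AlgSp

namespace K744.ArtV

theorem wr (S : Scheme.{u}) : WR S where
  alg c h1 h2 h3 _ w hW := by
    have := h1
    have := h2
    have := h3
    exact K893.Wr.isAlgSpace_Res hW
  lfp c h1 h2 h3 _ w hW hw := by
    have := h1
    have := h2
    have := h3
    exact K893.Wr.locP_lfp_π hW hw

end K744.ArtV
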